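import Cfsg.Agent.Known.SL2Pres.Odd

/-!
# Five relations in characteristic two
-/

set_option autoImplicit false
set_option linter.unusedSectionVars false

namespace Cfsg.Lib.SL2Pres

open Polynomial
open Matrix (SpecialLinearGroup ProjectiveSpecialLinearGroup)

theorem commute_of_involutions {G : Type*} [Group G] {x y : G} (hx : x * x = 1) (hy : y * y = 1)
    (hxy : x * y * (x * y) = 1) : Commute x y := by
  show x * y = y * x
  rw [eq_inv_of_mul_eq_one_left hxy, mul_inv_rev, inv_eq_of_mul_eq_one_left hx, inv_eq_of_mul_eq_one_left hy]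

theorem braid_sq {G : Type*} [Group G] {u t : G} (htt : t * t = 1) (hb : u * t * u * t⁻¹ * u⁻¹ = t) :
    u * u = 1 ∧ u * t * u * t⁻¹ * u = t := by
  have hu : u * u = 1 := by
    have e : u = (u * t)⁻¹ * (u * t * u * t⁻¹ * u⁻¹) * (u * t) := by group
    rw [hb] at e
    rw [e]
    calc (u * t)⁻¹ * t * (u * t) * ((u * t)⁻¹ * t * (u * t)) = (u * t)⁻¹ * (t * t) * (u * t) := by group
      _ = 1 := by rw [htt]; group
  refine ⟨hu, ?_⟩
  nth_rw 3 [← inv_eq_of_mul_eq_one_left hu]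
  exact hb

variable {F : Type*} [Field F] [Fintype F]

theorem even_group [CharP F 2] {G : Type*} [Group G] {h u t : G} {φ : F → G} {ω : F} (hω : ω ≠ 0)
    (hgen : ∀ x : F, x ≠ 0 → ∃ k : ℕ, ω ^ k = x) {N : ℕ} (hN : Odd N) (hωN : ω ^ N = 1)
    (hadd : ∀ x y, φ (x + y) = φ x * φ y) (hconj : ∀ x, h * φ x * h⁻¹ = φ (ω ^ 2 * x)) (hone : φ 1 = u)
    (htt : t * t = 1) (ht : t * h * t⁻¹ = h⁻¹) (h0 : u * t * u * t⁻¹ * u = t) (hhN : h ^ N = 1)
    (hcl : Subgroup.closure {h, u, t} = ⊤) :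
    Finite G ∧ Nat.card G ≤ (Fintype.card F + Fintype.card F * Fintype.card F) * N := by
  have hr0 : Rel h t φ ω 0 := by
    unfold Rel
    rw [neg_zero, zpow_zero, zpow_zero, one_mul, hone, h0]
  have hK := rel_char_two hω hconj ht hr0 (N := (N : ℤ)) (by rw [zpow_natCast, hωN]) ((Int.odd_coe_nat N).2 hN)
    (by rw [zpow_natCast, hhN])
  refine bound hω (fun x hx => ?_) hadd hconj ht (fun x => by rw [htt]; exact Commute.one_left _) (m := 0)
    (by rw [zpow_zero, htt]) hK hN.pos hhN (by rw [hone]; exact hcl)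
  obtain ⟨k, hk⟩ := hgen x hx
  exact ⟨k, by rw [zpow_natCast, hk]⟩

theorem mT_sq_two [CharP F 2] : (mT : SpecialLinearGroup (Fin 2) F) * mT = 1 := by
  rw [mT_sq]
  apply Subtype.ext; ext i j; fin_cases i <;> fin_cases j <;> simp [CharTwo.neg_eq]

theorem braid_mat [CharP F 2] {ω : F} (hω : ω ≠ 0) :
    mU (1 : F) * mT * mU 1 * mT⁻¹ * (mU 1)⁻¹ = mT := by
  have e : (mU (1 : F))⁻¹ = mU 1 := by rw [← root_neg mU_add, CharTwo.neg_eq]
  rw [e]
  simpa [Rel] using mRel hω 0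

/-- At most five relations present the matrix group in characteristic two. -/
theorem even_pres [CharP F 2] : ∃ L : List (FreeGroup (Fin 3)), L.length ≤ 5 ∧
    ∃ ω : F, ∃ hω : ω ≠ 0, (∀ x : F, x ≠ 0 → ∃ k : ℕ, ω ^ k = x) ∧
      (∀ r ∈ L, FreeGroup.lift ![mH hω, mU 1, mT] r = 1) ∧
      ∀ (G : Type) [Group G] (g : Fin 3 → G), Subgroup.closure {g 0, g 1, g 2} = ⊤ →
        (∀ r ∈ L, FreeGroup.lift g r = 1) →
        Finite G ∧ Nat.card G ≤ Fintype.card F * (Fintype.card F ^ 2 - 1) := by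
  haveI : Fact (Nat.Prime 2) := ⟨Nat.prime_two⟩
  obtain ⟨ω, hω, hgen, hord⟩ := exists_generator (F := F)
  have hq := Fintype.one_lt_card (α := F)
  set N := Fintype.card F - 1 with hNdef
  have hωN : ω ^ N = 1 := FiniteField.pow_card_sub_one_eq_one ω hω
  have hNodd : Odd N := by
    have : Fintype.card F % 2 = 0 := FiniteField.even_card_iff_char_two.1 (ringChar.eq F 2)
    exact Nat.odd_iff.2 (by omega)
  have hcard : (Fintype.card F + Fintype.card F * Fintype.card F) * N =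
      Fintype.card F * (Fintype.card F ^ 2 - 1) := by
    obtain ⟨m, hm⟩ : ∃ m, Fintype.card F = m + 1 := ⟨_, (Nat.sub_add_cancel hq.le).symm⟩
    rw [hNdef, hm, Nat.add_sub_cancel, show (m + 1) ^ 2 - 1 = m * (m + 2) by
      rw [show (m + 1) ^ 2 = m * (m + 2) + 1 by ring, Nat.add_sub_cancel]]
    ring
  have e0 : (![mH hω, mU 1, mT] : Fin 3 → SpecialLinearGroup (Fin 2) F) 0 = mH hω := rfl
  have e1 : (![mH hω, mU 1, mT] : Fin 3 → SpecialLinearGroup (Fin 2) F) 1 = mU 1 := rfl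
  have e2 : (![mH hω, mU 1, mT] : Fin 3 → SpecialLinearGroup (Fin 2) F) 2 = mT := rfl
  by_cases hq2 : Fintype.card F = 2
  · have hω1 : ω = 1 := by
      rw [show N = 1 by omega, pow_one] at hωN
      exact hωN
    subst hω1
    refine ⟨[wT * wT, wU * wT * wU * wT⁻¹ * wU⁻¹ * wT⁻¹, wH], by simp, 1, hω, hgen, ?_, fun G _ g hcl hr => ?_⟩
    · simp only [List.forall_mem_cons, List.not_mem_nil, false_imp_iff, implies_true, and_true, map_mul, map_inv,
        FreeGroup.lift_apply_of, e0, e1, e2]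
      refine ⟨mT_sq_two, mul_inv_eq_one.2 (braid_mat hω), ?_⟩
      apply Subtype.ext; ext i j; fin_cases i <;> fin_cases j <;> simp [coe_mH]
    simp only [List.forall_mem_cons, List.not_mem_nil, false_imp_iff, implies_true, and_true, map_mul, map_inv,
      FreeGroup.lift_apply_of] at hr
    obtain ⟨htt, hb, hh⟩ := hr
    obtain ⟨hu, h0⟩ := braid_sq htt (mul_inv_eq_one.1 hb)
    have hF : ∀ x : F, x = 0 ∨ x = 1 := fun x => by
      refine or_iff_not_imp_left.2 fun hx => ?_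
      obtain ⟨k, hk⟩ := hgen x hx
      rw [← hk, one_pow]
    classical
    rw [← hcard]
    refine even_group (φ := fun x : F => if x = 0 then (1 : G) else g 1) hω hgen hNodd hωN (fun x y => ?_)
      (fun x => by rw [hh, one_pow, one_mul]; simp) (by simp) htt (by rw [hh]; group) h0 (by rw [hh, one_pow]) hcl
    have h2 : (1 : F) + 1 = 0 := CharTwo.add_self_eq_zero 1
    rcases hF x with rfl | rfl <;> rcases hF y with rfl | rfl <;> simp [h2, hu]
  · have hN3 : 3 ≤ N := by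
      rcases hNodd with ⟨j, hj⟩
      omega
    have hρ1 : ω ^ 2 + 1 ≠ 0 := fun h => by
      have h1 : ω ^ 2 = 1 := by rwa [CharTwo.add_eq_zero] at h
      have := Nat.le_of_dvd (by norm_num) (orderOf_dvd_of_pow_eq_one h1)
      omega
    obtain ⟨y, hy⟩ := (bijective_frobenius F 2).2 (ω ^ 2 + 1)
    rw [frobenius_def] at hy
    obtain ⟨b, hb⟩ := exists_square_pow hgen (y := y) (fun h => hρ1 (by rw [← hy, h, zero_pow two_ne_zero]))
    rw [hy] at hb
    obtain ⟨P, hP0, hP⟩ := exists_int_poly 2 (ω ^ 2)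
    refine ⟨[wT * wT, wU * wT * wU * wT⁻¹ * wU⁻¹ * wT⁻¹, wT * wH * wT⁻¹ * wH,
      cj wH wU b * (wU * cj wH wU 1)⁻¹, wd wH wU P * (wH ^ N)⁻¹], by simp, ω, hω, hgen, ?_, fun G _ g hcl hr => ?_⟩
    · simp only [List.forall_mem_cons, List.not_mem_nil, false_imp_iff, implies_true, and_true, map_mul, map_inv,
        map_pow, cj_map, wd_map, FreeGroup.lift_apply_of, e0, e1, e2, cj_mat hω, wd_mat hω, hP0, mU_zero]
      refine ⟨mT_sq_two, mul_inv_eq_one.2 (braid_mat hω), ?_, ?_, ?_⟩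
      · rw [mT_conj hω, inv_mul_cancel]
      · rw [mul_inv_eq_one, ← mU_add, zpow_natCast, hb, zpow_one, add_comm]
      · rw [one_mul, inv_eq_one, ← zpow_natCast, mH_zpow]
        apply Subtype.ext; ext i j; fin_cases i <;> fin_cases j <;> simp [coe_mH, hωN]
    simp only [List.forall_mem_cons, List.not_mem_nil, false_imp_iff, implies_true, and_true, map_mul, map_inv,
      map_pow, cj_map, wd_map, FreeGroup.lift_apply_of] at hr
    obtain ⟨htt, hbr, ht, hcj, hPN⟩ := hr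
    rw [mul_inv_eq_one] at hcj hPN
    obtain ⟨hu, h0⟩ := braid_sq htt (mul_inv_eq_one.1 hbr)
    have hinv : ∀ k, cj (g 0) (g 1) k * cj (g 0) (g 1) k = 1 := fun k => by
      rw [cj, show g 0 ^ k * g 1 * (g 0 ^ k)⁻¹ * (g 0 ^ k * g 1 * (g 0 ^ k)⁻¹) = g 0 ^ k * (g 1 * g 1) * (g 0 ^ k)⁻¹
        by group, hu]
      group
    have h1 : Commute (g 1) (cj (g 0) (g 1) 1) :=
      commute_of_involutions hu (hinv 1) (by rw [← hcj, hinv])
    have hc := all_commute_of_mult (a := 1) (commute_steps h1 hcj) (Subgroup.subset_closure ⟨1, by simp⟩)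
    obtain ⟨θ, hθ, haddθ, honeθ, hXθ, -, hCθ, -⟩ := exists_theta hc
    have hR : wd (g 0) (g 1) (X ^ b - X - 1) = 1 := by
      have hXk : ∀ k : ℕ, θ (X ^ k) = cj (g 0) (g 1) k := by
        intro k
        induction k with
        | zero => rw [pow_zero, honeθ, Nat.cast_zero, cj_zero]
        | succ k ih =>
          rw [pow_succ', ← hXθ, ih, show ((k + 1 : ℕ) : ℤ) = 1 + k by push_cast; ring, cj_add, zpow_one]
      have e := congrArg θ (show (X : ℤ[X]) ^ b = (X ^ b - X - 1) + (X ^ 1 + 1) by ring)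
      rw [haddθ, haddθ, hXk, hXk, honeθ, hcj, ← hθ, h1.eq, Nat.cast_one] at *
      exact right_eq_mul.1 e
    have hfix : g 0 * wd (g 0) (g 1) P * (g 0)⁻¹ = wd (g 0) (g 1) P := by
      rw [hPN]; group
    have hPu := wd_eq_one_of_fixed hc hfix hR
    have hhN : g 0 ^ N = 1 := by rw [← hPN, hPu]
    obtain ⟨φ, hadd, hone, hconj, -⟩ :=
      exists_root_hom 2 (ω ^ 2) (aeval_surjective hgen) P hP hc (by rw [pow_two, hu]) hPu
    rw [← hcard]
    exact even_group hω hgen hNodd hωN hadd hconj hone htt (mul_eq_one_iff_eq_inv.1 ht) h0 hhN hcl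

end Cfsg.Lib.SL2Pres
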