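import Cfsg.Agent.Known.SL2Pres.Even

/-!
# Short presentations of two-dimensional linear groups
-/

set_option autoImplicit false
set_option linter.unusedSectionVars false

namespace Cfsg.Lib.SL2Pres

open Matrix (SpecialLinearGroup ProjectiveSpecialLinearGroup)

variable {F : Type*} [Field F] [Fintype F]

theorem even_pres_both [CharP F 2] :
    (∃ rels : Finset (FreeGroup (Fin 3)), rels.card ≤ 5 ∧
      Nonempty (PresentedGroup (↑rels : Set (FreeGroup (Fin 3))) ≃* SpecialLinearGroup (Fin 2) F)) ∧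
    ∃ rels : Finset (FreeGroup (Fin 3)), rels.card ≤ 5 ∧
      Nonempty (PresentedGroup (↑rels : Set (FreeGroup (Fin 3))) ≃* ProjectiveSpecialLinearGroup (Fin 2) F) := by
  obtain ⟨L, hL, ω, hω, hgen, hmat, hb⟩ := even_pres (F := F)
  refine ⟨pres_iso L hL _ hmat (mat_closure hω hgen) fun G _ g hcl hr => ?_,
    pres_iso L hL _ (fun r hr => lift_psl hω r (hmat r hr)) (psl_closure hω hgen) fun G _ g hcl hr => ?_⟩
  · rw [Cfsg.Lib.Classical.SLTwoTori.card_SL2]
    exact hb G g hcl hr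
  · have h2 := Cfsg.Lib.Classical.SmallPSL.card_psl (F := F) rfl
    have hq := Fintype.one_lt_card (α := F)
    have heven : Fintype.card F % 2 = 0 := FiniteField.even_card_iff_char_two.1 (ringChar.eq F 2)
    rw [(Nat.Prime.coprime_iff_not_dvd Nat.prime_two).2 (by omega), one_mul] at h2
    rw [h2]
    exact hb G g hcl hr

theorem main :
    (∃ rels : Finset (FreeGroup (Fin 3)), rels.card ≤ 9 ∧
      Nonempty (PresentedGroup (↑rels : Set (FreeGroup (Fin 3))) ≃* SpecialLinearGroup (Fin 2) F)) ∧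
    (∃ rels : Finset (FreeGroup (Fin 3)), rels.card ≤ 9 ∧
      Nonempty (PresentedGroup (↑rels : Set (FreeGroup (Fin 3))) ≃* ProjectiveSpecialLinearGroup (Fin 2) F)) ∧
    (CharP F 2 → ∃ rels : Finset (FreeGroup (Fin 3)), rels.card ≤ 5 ∧
      Nonempty (PresentedGroup (↑rels : Set (FreeGroup (Fin 3))) ≃* ProjectiveSpecialLinearGroup (Fin 2) F)) := by
  obtain ⟨p, hcp⟩ := CharP.exists F
  haveI := hcp
  haveI : Fact p.Prime := ⟨CharP.char_is_prime F p⟩
  rcases eq_or_ne p 2 with rfl | hp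
  · obtain ⟨⟨r, hr, hs⟩, ⟨r', hr', hs'⟩⟩ := even_pres_both (F := F)
    exact ⟨⟨r, hr.trans (by norm_num), hs⟩, ⟨r', hr'.trans (by norm_num), hs'⟩, fun _ => ⟨r', hr', hs'⟩⟩
  · obtain ⟨h1, h2⟩ := odd_pres (F := F) p hp
    exact ⟨h1, h2, fun h => absurd (CharP.eq F hcp h) hp⟩

end Cfsg.Lib.SL2Pres
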