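import Cfsg.Agent.Known.SL2Pres.Target

/-!
# Nine relations in odd characteristic
-/

set_option autoImplicit false
set_option linter.unusedSectionVars false

namespace Cfsg.Lib.SL2Pres

open Polynomial
open Matrix (SpecialLinearGroup ProjectiveSpecialLinearGroup)

theorem cj_map {G H : Type*} [Group G] [Group H] (φ : G →* H) (h u : G) (k : ℤ) :
    φ (cj h u k) = cj (φ h) (φ u) k := by
  simp [cj]

variable {F : Type*} [Field F] [Fintype F]

theorem root_zpow {G : Type*} [Group G] {ψ : F → G} (hadd : ∀ x y, ψ (x + y) = ψ x * ψ y) (x : F) (c : ℤ) :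
    ψ x ^ c = ψ (c * x) := by
  let Ψ : Multiplicative F →* G := MonoidHom.mk' (fun x => ψ x.toAdd) fun a b => hadd _ _
  show Ψ (Multiplicative.ofAdd x) ^ c = _
  rw [← map_zpow]
  show ψ (c • x) = _
  rw [zsmul_eq_mul]

theorem mU_zero : mU (0 : F) = 1 := root_zero mU_add

theorem cj_mat {ω : F} (hω : ω ≠ 0) (k : ℤ) : cj (mH hω) (mU 1) k = mU ((ω ^ 2) ^ k) := by
  rw [cj, root_conj_zpow hω (mH_conj hω), mul_one]

/-- Relations making all conjugates of the root element commute. -/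
theorem exists_commute_rels (p : ℕ) [Fact p.Prime] [CharP F p] (hp : p ≠ 2) {ω : F} (hω : ω ≠ 0)
    (hgen : ∀ x : F, x ≠ 0 → ∃ k : ℕ, ω ^ k = x) :
    ∃ C : List (FreeGroup (Fin 3)), C.length ≤ 3 ∧
      (∀ r ∈ C, FreeGroup.lift ![mH hω, mU 1, mT] r = 1) ∧
      ∀ (G : Type) [Group G] (g : Fin 3 → G), (∀ r ∈ C, FreeGroup.lift g r = 1) →
        ∀ i j : ℤ, Commute (cj (g 0) (g 1) i) (cj (g 0) (g 1) j) := by
  letI := ZMod.algebra F p
  by_cases he : Module.finrank (ZMod p) F ≤ 2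
  · obtain ⟨c₀, c₁, hc⟩ := exists_linear_sq p (ω ^ 2) he
    refine ⟨[wU * cj wH wU 1 * (cj wH wU 1 * wU)⁻¹, cj wH wU 2 * (wU ^ c₀ * cj wH wU 1 ^ c₁)⁻¹], by simp, ?_, ?_⟩
    · simp only [List.forall_mem_cons, List.not_mem_nil, false_imp_iff, implies_true, and_true, map_mul, map_inv,
        map_zpow, cj_map, FreeGroup.lift_apply_of, mul_inv_eq_one]
      simp only [show (![mH hω, mU 1, mT] : Fin 3 → SpecialLinearGroup (Fin 2) F) 0 = mH hω from rfl,
        show (![mH hω, mU 1, mT] : Fin 3 → SpecialLinearGroup (Fin 2) F) 1 = mU 1 from rfl, cj_mat hω,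
        root_zpow mU_add, ← mU_add]
      exact ⟨by rw [add_comm], by rw [mul_one, zpow_one, zpow_two, ← pow_two, hc]⟩
    · intro G _ g hg
      simp only [List.forall_mem_cons, List.not_mem_nil, false_imp_iff, implies_true, and_true, map_mul, map_inv,
        map_zpow, cj_map, FreeGroup.lift_apply_of, mul_inv_eq_one] at hg
      refine all_commute_of_two hg.1 ?_
      rw [hg.2]
      exact mul_mem (zpow_mem (Subgroup.subset_closure (Set.mem_insert _ _)) _)
        (zpow_mem (Subgroup.subset_closure (Set.mem_insert_of_mem _ (Set.mem_singleton _))) _)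
  · obtain ⟨x, hx0, hx1, hsq, hsq1, hxgen⟩ := exists_consecutive_squares (F := F) p hp (by omega)
    obtain ⟨s, rfl⟩ := hsq
    obtain ⟨s', hs'⟩ := hsq1
    obtain ⟨a0, ha0⟩ := exists_square_pow hgen (y := s) (fun h => hx0 (by rw [h, mul_zero]))
    obtain ⟨b, hb⟩ := exists_square_pow hgen (y := s') (fun h => hx1 (by rw [hs', h, mul_zero]))
    obtain ⟨a, ha, hρa⟩ : ∃ a : ℕ, 0 < a ∧ (ω ^ 2) ^ a = s * s := by
      refine ⟨a0 + (Fintype.card F - 1), by have := Fintype.one_lt_card (α := F); omega, ?_⟩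
      rw [pow_add, FiniteField.pow_card_sub_one_eq_one _ (pow_ne_zero 2 hω), mul_one, ha0, pow_two]
    have hρb : (ω ^ 2) ^ b = 1 + s * s := by rw [hb, pow_two, ← hs', add_comm]
    obtain ⟨g₁, hg₁⟩ := hxgen (ω ^ 2)
    have hexp : aeval (ω ^ 2) (expand ℤ a g₁) = ω ^ 2 := by rw [expand_aeval, hρa, hg₁]
    refine ⟨[wU * cj wH wU a * (cj wH wU a * wU)⁻¹, cj wH wU b * (wU * cj wH wU a)⁻¹,
      cj wH wU 1 * (wd wH wU (expand ℤ a g₁))⁻¹], by simp, ?_, ?_⟩
    · simp only [List.forall_mem_cons, List.not_mem_nil, false_imp_iff, implies_true, and_true, map_mul, map_inv,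
        cj_map, wd_map, FreeGroup.lift_apply_of, mul_inv_eq_one]
      simp only [show (![mH hω, mU 1, mT] : Fin 3 → SpecialLinearGroup (Fin 2) F) 0 = mH hω from rfl,
        show (![mH hω, mU 1, mT] : Fin 3 → SpecialLinearGroup (Fin 2) F) 1 = mU 1 from rfl, cj_mat hω,
        wd_mat hω, hexp, ← mU_add, zpow_natCast, hρa, hρb]
      exact ⟨by rw [add_comm], trivial, by rw [zpow_one]⟩
    · intro G _ g hg
      simp only [List.forall_mem_cons, List.not_mem_nil, false_imp_iff, implies_true, and_true, map_mul, map_inv,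
        cj_map, wd_map, FreeGroup.lift_apply_of, mul_inv_eq_one] at hg
      obtain ⟨h1, h2, h3⟩ := hg
      refine all_commute_of_mult (commute_steps h1 h2) ?_
      rw [h3]
      refine wd_mem _ fun i hi => ?_
      rw [coeff_expand ha] at hi
      split_ifs at hi with hdvd
      · obtain ⟨j, rfl⟩ := hdvd
        exact ⟨j, by push_cast; ring⟩
      · exact absurd rfl hi

theorem odd_group (p : ℕ) [Fact p.Prime] [CharP F p] {G : Type*} [Group G] {h u t : G} {ω : F} (hω : ω ≠ 0)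
    (hgen : ∀ x : F, x ≠ 0 → ∃ k : ℕ, ω ^ k = x) {M : ℕ} (hM0 : 0 < M) (hM : ω ^ M = -1) {P fw fw' : ℤ[X]}
    (hP : ∀ f : ℤ[X], aeval (ω ^ 2) f = 0 → ∃ g r : ℤ[X], f = g * P + C (p : ℤ) * r)
    (hfw : aeval (ω ^ 2) fw = ω) (hfw' : aeval (ω ^ 2) fw' = ω⁻¹)
    (hc : ∀ i j : ℤ, Commute (cj h u i) (cj h u j)) (hup : u ^ p = 1) (hPu : wd h u P = 1)
    (ht : t * h * t⁻¹ = h⁻¹) (h0 : u * t * u * t⁻¹ * u = t)
    (h1 : wd h u fw * t * wd h u fw' * t⁻¹ * wd h u fw = h * t) (hz : Commute (t * t) u)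
    (hcl : Subgroup.closure {h, u, t} = ⊤) :
    Finite G ∧ Nat.card G ≤ (Fintype.card F + Fintype.card F * Fintype.card F) * (2 * M) ∧
      (t * t = 1 → Nat.card G ≤ (Fintype.card F + Fintype.card F * Fintype.card F) * M) := by
  obtain ⟨φ, hadd, hone, hconj, hwd⟩ := exists_root_hom p (ω ^ 2) (aeval_surjective hgen) P hP hc hup hPu
  have hr0 : Rel h t φ ω 0 := by
    unfold Rel
    rw [neg_zero, zpow_zero, zpow_zero, one_mul, hone, h0]
  have hr1 : Rel h t φ ω 1 := by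
    unfold Rel
    rw [zpow_one, zpow_neg_one, zpow_one, ← hfw', hwd]
    have : φ ω = wd h u fw := by rw [← hwd, hfw]
    rw [this, h1]
  have hK := rel_all hω hconj ht hr0 hr1
  have hhalf := half_eq hadd (M := (M : ℤ)) (by rw [zpow_natCast, hM]) hr0 (hK _)
  have hN : h ^ (2 * M) = 1 := by
    have hωN : ω ^ ((2 * M : ℕ) : ℤ) = 1 := by rw [zpow_natCast, mul_comm, pow_mul, hM]; ring
    have := zpow_period hω hωN (hK 0) (hK _)
    rwa [zpow_natCast] at this
  have hzφ : ∀ x, Commute (t * t) (φ x) := fun x => by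
    obtain ⟨f, rfl⟩ := aeval_surjective hgen x
    rw [hwd]
    exact commute_wd (sq_comm ht) hz f
  have hcl' : Subgroup.closure ({h, φ 1, t} : Set G) = ⊤ := by rw [hone]; exact hcl
  have hm : t * t = h ^ (-(M : ℤ)) := by rw [zpow_neg, hhalf, inv_inv]
  have hgen' : ∀ x : F, x ≠ 0 → ∃ k : ℤ, ω ^ k = x := fun x hx => by
    obtain ⟨k, hk⟩ := hgen x hx
    exact ⟨k, by rw [zpow_natCast, hk]⟩
  obtain ⟨hfin, hb⟩ := bound hω hgen' hadd hconj ht hzφ hm hK (by omega) hN hcl'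
  refine ⟨hfin, hb, fun htt => ?_⟩
  refine (bound hω hgen' hadd hconj ht hzφ hm hK hM0 ?_ hcl').2
  rw [← zpow_natCast, hhalf, htt, inv_one]

theorem odd_pres (p : ℕ) [Fact p.Prime] [CharP F p] (hp : p ≠ 2) :
    (∃ rels : Finset (FreeGroup (Fin 3)), rels.card ≤ 9 ∧
      Nonempty (PresentedGroup (↑rels : Set (FreeGroup (Fin 3))) ≃* SpecialLinearGroup (Fin 2) F)) ∧
    ∃ rels : Finset (FreeGroup (Fin 3)), rels.card ≤ 9 ∧
      Nonempty (PresentedGroup (↑rels : Set (FreeGroup (Fin 3))) ≃* ProjectiveSpecialLinearGroup (Fin 2) F) := by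
  obtain ⟨ω, hω, hgen, hord⟩ := exists_generator (F := F)
  obtain ⟨C₀, hC3, hCmat, hCg⟩ := exists_commute_rels p hp hω hgen
  have hqodd : Fintype.card F % 2 = 1 := FiniteField.odd_card_of_char_ne_two (by rwa [ringChar.eq F p])
  have hq := Fintype.one_lt_card (α := F)
  set M := (Fintype.card F - 1) / 2 with hMdef
  have hM0 : 0 < M := by omega
  have hM : ω ^ M = -1 := by
    refine (mul_self_eq_one_iff.1 ?_).resolve_left fun h => ?_
    · rw [← pow_add, show M + M = orderOf ω by omega, pow_orderOf_eq_one]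
    · have := Nat.le_of_dvd hM0 (orderOf_dvd_of_pow_eq_one h)
      omega
  obtain ⟨P, hP0, hP⟩ := exists_int_poly p (ω ^ 2)
  obtain ⟨fw, hfw⟩ := aeval_surjective hgen ω
  obtain ⟨fw', hfw'⟩ := aeval_surjective hgen ω⁻¹
  let base : List (FreeGroup (Fin 3)) := [wU ^ p, wd wH wU P, wT * wH * wT⁻¹ * wH,
    wU * wT * wU * wT⁻¹ * wU * wT⁻¹,
    wd wH wU fw * wT * wd wH wU fw' * wT⁻¹ * wd wH wU fw * (wH * wT)⁻¹]
  have hbase : ∀ r ∈ base, FreeGroup.lift ![mH hω, mU 1, mT] r = 1 := by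
    simp only [base, List.forall_mem_cons, List.not_mem_nil, false_imp_iff, implies_true, and_true, map_mul, map_inv,
      map_pow, wd_map, FreeGroup.lift_apply_of, mul_inv_eq_one]
    simp only [show (![mH hω, mU 1, mT] : Fin 3 → SpecialLinearGroup (Fin 2) F) 0 = mH hω from rfl,
      show (![mH hω, mU 1, mT] : Fin 3 → SpecialLinearGroup (Fin 2) F) 1 = mU 1 from rfl,
      show (![mH hω, mU 1, mT] : Fin 3 → SpecialLinearGroup (Fin 2) F) 2 = mT from rfl, wd_mat hω, hP0, hfw, hfw']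
    refine ⟨?_, mU_zero, ?_, ?_, ?_⟩
    · rw [← zpow_natCast, root_zpow mU_add, Int.cast_natCast, CharP.cast_eq_zero, zero_mul, mU_zero]
    · rw [mT_conj hω, inv_mul_cancel]
    · simpa [Rel] using mRel hω 0
    · simpa [Rel] using mRel hω 1
  have key : ∀ (G : Type) [Group G] (g : Fin 3 → G), Subgroup.closure {g 0, g 1, g 2} = ⊤ →
      (∀ r ∈ base ++ C₀, FreeGroup.lift g r = 1) → Commute (g 2 * g 2) (g 1) →
      Finite G ∧ Nat.card G ≤ (Fintype.card F + Fintype.card F * Fintype.card F) * (2 * M) ∧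
        (g 2 * g 2 = 1 → Nat.card G ≤ (Fintype.card F + Fintype.card F * Fintype.card F) * M) := by
    intro G _ g hcl hr hz
    have hc := hCg G g fun r hr' => hr r (List.mem_append.2 (Or.inr hr'))
    have hb : ∀ r ∈ base, FreeGroup.lift g r = 1 := fun r hr' => hr r (List.mem_append.2 (Or.inl hr'))
    simp only [base, List.forall_mem_cons, List.not_mem_nil, false_imp_iff, implies_true, and_true, map_mul, map_inv,
      map_pow, wd_map, FreeGroup.lift_apply_of] at hb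
    obtain ⟨hup, hPu, ht, h0, h1⟩ := hb
    exact odd_group p hω hgen hM0 hM hP hfw hfw' hc hup hPu (mul_eq_one_iff_eq_inv.1 ht) (mul_inv_eq_one.1 h0)
      (mul_inv_eq_one.1 h1) hz hcl
  refine ⟨pres_iso ((wT * wT * wU * (wU * (wT * wT))⁻¹) :: (base ++ C₀)) ?_ ![mH hω, mU 1, mT] ?_
    (mat_closure hω hgen) fun G _ g hcl hr => ?_,
    pres_iso ((wT * wT) :: (base ++ C₀)) ?_ (⇑toPSL ∘ ![mH hω, mU 1, mT]) ?_
    (psl_closure hω hgen) fun G _ g hcl hr => ?_⟩
  · simp [base]; omega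
  · intro r hr
    rcases List.mem_cons.1 hr with rfl | hr
    · simpa using mul_inv_eq_one.2 (mT_sq_comm (mU (1 : F))).eq
    · exact (List.mem_append.1 hr).elim (hbase r) (hCmat r)
  · rw [List.forall_mem_cons] at hr
    have hz : Commute (g 2 * g 2) (g 1) := mul_inv_eq_one.1 (by simpa using hr.1)
    obtain ⟨hfin, hb, -⟩ := key G g hcl hr.2 hz
    refine ⟨hfin, hb.trans_eq ?_⟩
    rw [Cfsg.Lib.Classical.SLTwoTori.card_SL2, show 2 * M = Fintype.card F - 1 by omega]
    obtain ⟨m, hm⟩ : ∃ m, Fintype.card F = m + 1 := ⟨_, (Nat.sub_add_cancel hq.le).symm⟩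
    rw [hm, Nat.add_sub_cancel, show (m + 1) ^ 2 - 1 = m * (m + 2) by
      rw [show (m + 1) ^ 2 = m * (m + 2) + 1 by ring, Nat.add_sub_cancel]]
    ring
  · simp [base]; omega
  · intro r hr
    rcases List.mem_cons.1 hr with rfl | hr
    · simpa using toPSL_mT_sq (F := F)
    · exact lift_psl hω r ((List.mem_append.1 hr).elim (hbase r) (hCmat r))
  · rw [List.forall_mem_cons] at hr
    have htt : g 2 * g 2 = 1 := by simpa using hr.1
    obtain ⟨hfin, -, hb⟩ := key G g hcl hr.2 (by rw [htt]; exact Commute.one_left _)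
    refine ⟨hfin, (hb htt).trans_eq ?_⟩
    have h2 := Cfsg.Lib.Classical.SmallPSL.card_psl (F := F) rfl
    obtain ⟨m, hm⟩ : ∃ m, Fintype.card F = 2 * m + 1 := ⟨M, by omega⟩
    rw [show M = m by omega, hm]
    rw [hm, Nat.add_sub_cancel, Nat.gcd_mul_right_right,
      show (2 * m + 1) ^ 2 - 1 = 4 * m * (m + 1) by
        rw [show (2 * m + 1) ^ 2 = 4 * m * (m + 1) + 1 by ring, Nat.add_sub_cancel]] at h2
    have e : 2 * ((2 * m + 1 + (2 * m + 1) * (2 * m + 1)) * m) = (2 * m + 1) * (4 * m * (m + 1)) := by ring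
    omega

end Cfsg.Lib.SL2Pres
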