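import Cfsg.Agent.Known.SL2Pres.Words

/-!
# Finite fields: squares generate, minimal polynomials over the integers, two consecutive squares
-/

set_option autoImplicit false
set_option linter.unusedSectionVars false

namespace Cfsg.Lib.SL2Pres

open Polynomial

variable {F : Type*} [Field F]

theorem wd_root {G : Type*} [Group G] {h : G} {ρ : F} {ψ : F → G} (hadd : ∀ x y, ψ (x + y) = ψ x * ψ y)
    (hconj : ∀ x, h * ψ x * h⁻¹ = ψ (ρ * x)) (f : ℤ[X]) : wd h (ψ 1) f = ψ (aeval ρ f) := by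
  let Ψ : Multiplicative F →* G := MonoidHom.mk' (fun x => ψ x.toAdd) fun a b => hadd _ _
  have hpow : ∀ (i : ℕ) (x : F), h ^ i * ψ x * (h ^ i)⁻¹ = ψ (ρ ^ i * x) := by
    intro i
    induction i with
    | zero => intro x; simp
    | succ i ih =>
      intro x
      rw [pow_succ ρ i, mul_assoc (ρ ^ i), ← ih, ← hconj, pow_succ]; group
  have hz : ∀ c : ℤ, ψ 1 ^ c = ψ (c : F) := fun c => by
    show Ψ (Multiplicative.ofAdd 1) ^ c = _
    rw [← map_zpow]
    show ψ (c • (1 : F)) = _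
    rw [zsmul_one]
  have hs : ∀ n, ψ (∑ i ∈ Finset.range n, (f.coeff i : F) * ρ ^ i) =
      ((List.range n).map fun i => h ^ i * ψ 1 ^ f.coeff i * (h ^ i)⁻¹).prod := by
    intro n
    induction n with
    | zero => simpa using left_eq_mul.1 (show ψ 0 = ψ 0 * ψ 0 by rw [← hadd, add_zero])
    | succ n ih =>
      rw [Finset.sum_range_succ, hadd, ih, List.range_succ, List.map_append, List.prod_append, List.map_singleton,
        List.prod_singleton, hz, hpow, mul_comm (ρ ^ n)]
  rw [wd, ← hs, aeval_eq_sum_range]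
  congr 1
  exact Finset.sum_congr rfl fun i _ => (zsmul_eq_mul _ _).symm

theorem commute_wd {G : Type*} [Group G] {z h u : G} (hh : Commute z h) (hu : Commute z u) (f : ℤ[X]) :
    Commute z (wd h u f) := by
  refine Commute.list_prod_right _ _ fun x hx => ?_
  rw [List.mem_map] at hx
  obtain ⟨i, -, rfl⟩ := hx
  exact ((hh.pow_right i).mul_right (hu.zpow_right _)).mul_right (hh.pow_right i).inv_right

section Prime

variable (p : ℕ) [Fact p.Prime] [CharP F p]

theorem aeval_mod (ρ : F) (f : ℤ[X]) : letI := ZMod.algebra F p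
    aeval ρ (f.map (Int.castRingHom (ZMod p))) = aeval ρ f := by
  letI := ZMod.algebra F p
  rw [aeval_def, eval₂_map, aeval_def]
  congr 1
  exact RingHom.ext_int _ _

theorem exists_int_poly [Finite F] (x : F) : ∃ P : ℤ[X], aeval x P = 0 ∧
    ∀ f : ℤ[X], aeval x f = 0 → ∃ g r : ℤ[X], f = g * P + C (p : ℤ) * r := by
  letI := ZMod.algebra F p
  have hsurj : Function.Surjective (Int.castRingHom (ZMod p)) := ZMod.intCast_surjective
  obtain ⟨P, hP⟩ := Polynomial.map_surjective _ hsurj (minpoly (ZMod p) x)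
  refine ⟨P, by rw [← aeval_mod p, hP, minpoly.aeval], fun f hf => ?_⟩
  obtain ⟨g', hg'⟩ := minpoly.dvd (ZMod p) x (show aeval x (f.map (Int.castRingHom (ZMod p))) = 0 by rw [aeval_mod p, hf])
  obtain ⟨g, rfl⟩ := Polynomial.map_surjective _ hsurj g'
  have h0 : (f - g * P).map (Int.castRingHom (ZMod p)) = 0 := by
    rw [Polynomial.map_sub, Polynomial.map_mul, hP, hg', mul_comm, sub_self]
  obtain ⟨r, hr⟩ := (C_dvd_iff_dvd_coeff (p : ℤ) (f - g * P)).2 fun i => by
    have := congrArg (coeff · i) h0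
    simp only [coeff_map, coeff_zero, eq_intCast] at this
    exact (ZMod.intCast_zmod_eq_zero_iff_dvd _ _).1 this
  exact ⟨g, r, by rw [← hr]; ring⟩

theorem exists_linear_sq [Finite F] (ρ : F) (he : letI := ZMod.algebra F p; Module.finrank (ZMod p) F ≤ 2) :
    ∃ c₀ c₁ : ℤ, ρ ^ 2 = c₀ + c₁ * ρ := by
  letI := ZMod.algebra F p
  have hint : IsIntegral (ZMod p) ρ := IsIntegral.of_finite _ _
  set m := minpoly (ZMod p) ρ with hm
  have hdeg : (X ^ 2 %ₘ m).natDegree ≤ 1 := by
    have h1 : m.natDegree ≤ 2 := (minpoly.natDegree_le ρ).trans he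
    have h2 := Polynomial.natDegree_modByMonic_lt (X ^ 2 : (ZMod p)[X]) (minpoly.monic hint) (minpoly.ne_one _ _)
    rw [← hm] at h2
    omega
  have hr : aeval ρ (X ^ 2 %ₘ m) = ρ ^ 2 := by
    have := Polynomial.modByMonic_add_div (X ^ 2 : (ZMod p)[X]) m
    have h := congrArg (aeval ρ) this
    rw [map_add, map_mul, hm, minpoly.aeval, zero_mul, add_zero, aeval_X_pow] at h
    exact h
  rw [Polynomial.eq_X_add_C_of_natDegree_le_one hdeg] at hr
  obtain ⟨c₁, h1⟩ := ZMod.intCast_surjective ((X ^ 2 %ₘ m).coeff 1)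
  obtain ⟨c₀, h0⟩ := ZMod.intCast_surjective ((X ^ 2 %ₘ m).coeff 0)
  refine ⟨c₀, c₁, ?_⟩
  rw [← hr, ← h0, ← h1, map_add, map_mul, aeval_C, aeval_C, aeval_X, map_intCast, map_intCast, add_comm]

end Prime

section Gen

variable [Fintype F] {ω : F}

theorem exists_generator : ∃ ω : F, ω ≠ 0 ∧ (∀ x : F, x ≠ 0 → ∃ k : ℕ, ω ^ k = x) ∧
    orderOf ω = Fintype.card F - 1 := by
  classical
  obtain ⟨g, hg⟩ := IsCyclic.exists_generator (α := Fˣ)
  refine ⟨g, g.ne_zero, fun x hx => ?_, ?_⟩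
  · obtain ⟨k, hk⟩ := mem_powers_iff_mem_zpowers.2 (hg (Units.mk0 x hx))
    exact ⟨k, by simpa using congrArg Units.val hk⟩
  · rw [orderOf_units, orderOf_eq_card_of_forall_mem_zpowers hg, Nat.card_eq_fintype_card, Fintype.card_units]

theorem exists_square_pow (hgen : ∀ x : F, x ≠ 0 → ∃ k : ℕ, ω ^ k = x) {y : F} (hy : y ≠ 0) :
    ∃ i : ℕ, (ω ^ 2) ^ i = y ^ 2 := by
  obtain ⟨k, rfl⟩ := hgen y hy
  exact ⟨k, by rw [← pow_mul, ← pow_mul, mul_comm]⟩

theorem aeval_surjective (hgen : ∀ x : F, x ≠ 0 → ∃ k : ℕ, ω ^ k = x) (x : F) :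
    ∃ f : ℤ[X], aeval (ω ^ 2) f = x := by
  have hsq : ∀ y : F, ∃ f : ℤ[X], aeval (ω ^ 2) f = y ^ 2 := fun y => by
    by_cases hy : y = 0
    · exact ⟨0, by simp [hy]⟩
    obtain ⟨i, hi⟩ := exists_square_pow hgen hy
    exact ⟨X ^ i, by rw [aeval_X_pow, hi]⟩
  by_cases h2 : (2 : F) = 0
  · haveI : CharP F 2 := CharTwo.of_one_ne_zero_of_two_eq_zero one_ne_zero h2
    obtain ⟨y, hy⟩ := (bijective_frobenius F 2).2 x
    obtain ⟨f, hf⟩ := hsq y
    exact ⟨f, by rw [hf, ← hy, frobenius_def]⟩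
  · obtain ⟨f, hf⟩ := hsq ((x + 1) / 2)
    obtain ⟨g, hg⟩ := hsq ((x - 1) / 2)
    exact ⟨f - g, by rw [map_sub, hf, hg]; field_simp; ring⟩

end Gen

theorem two_mul_sum_pow_le {p : ℕ} (hp : 3 ≤ p) (k : ℕ) : 2 * ∑ d ∈ Finset.Icc 1 k, p ^ d ≤ 3 * p ^ k := by
  induction k with
  | zero => simp
  | succ k ih =>
    rw [Finset.sum_Icc_succ_top (by omega), pow_succ]
    nlinarith [Nat.mul_le_mul_left (p ^ k) hp]

/-- A nonzero square with a nonzero square successor, generating the field. -/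
theorem exists_consecutive_squares [Fintype F] (p : ℕ) [Fact p.Prime] [CharP F p] (hp : p ≠ 2)
    (he : letI := ZMod.algebra F p; 3 ≤ Module.finrank (ZMod p) F) :
    ∃ x : F, x ≠ 0 ∧ x + 1 ≠ 0 ∧ IsSquare x ∧ IsSquare (x + 1) ∧ ∀ y : F, ∃ f : ℤ[X], aeval x f = y := by
  classical
  letI := ZMod.algebra F p
  set e := Module.finrank (ZMod p) F with hedef
  have hcard : Fintype.card F = p ^ e := by rw [Module.card_eq_pow_finrank (K := ZMod p), ZMod.card]
  have hp3 : 3 ≤ p := by have := (Fact.out : p.Prime).two_le; omega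
  have h2 : (2 : F) ≠ 0 := fun h => hp <| by
    have h' : ((2 : ℕ) : F) = 0 := by exact_mod_cast h
    exact ((Nat.prime_dvd_prime_iff_eq Fact.out Nat.prime_two).1 ((CharP.cast_eq_zero_iff F p 2).1 h'))
  set k := e / 2 with hk
  let B : Finset F := (Finset.Icc 1 k).biUnion fun d => (X ^ (p ^ d) - X : F[X]).roots.toFinset
  have hBmem : ∀ (d : ℕ) (x : F), 1 ≤ d → d ≤ k → x ^ (p ^ d) = x → x ∈ B := fun d x hd1 hdk hx => by
    refine Finset.mem_biUnion.2 ⟨d, Finset.mem_Icc.2 ⟨hd1, hdk⟩, ?_⟩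
    rw [Multiset.mem_toFinset, mem_roots']
    exact ⟨FiniteField.X_pow_card_pow_sub_X_ne_zero F (by omega) (Fact.out : p.Prime).one_lt, by simp [hx]⟩
  have hBcard : B.card ≤ ∑ d ∈ Finset.Icc 1 k, p ^ d := by
    refine Finset.card_biUnion_le.trans (Finset.sum_le_sum fun d hd => ?_)
    refine (Multiset.toFinset_card_le _).trans ((card_roots' _).trans ?_)
    rw [FiniteField.X_pow_card_pow_sub_X_natDegree_eq F (by have := (Finset.mem_Icc.1 hd).1; omega)
      (Fact.out : p.Prime).one_lt]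
  let quart : F → F[X] := fun x => (X ^ 2 - 1) ^ 2 - C (4 * x) * X ^ 2
  have hquart : ∀ x, quart x ≠ 0 ∧ (quart x).natDegree ≤ 4 := fun x => by
    have e1 : quart x = X ^ 4 - C (2 + 4 * x) * X ^ 2 + 1 := by
      simp only [quart, map_add, map_mul, map_ofNat]; ring
    refine ⟨fun h => ?_, by rw [e1]; compute_degree⟩
    have := congrArg (coeff · 4) h
    simp only [e1, coeff_add, coeff_sub, coeff_C_mul, coeff_X_pow, coeff_one, coeff_zero] at this
    norm_num at this
  let bad : Finset F := insert 0 (B.biUnion fun x => (quart x).roots.toFinset)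
  have hlt : bad.card < (Finset.univ : Finset F).card := by
    have h1 : bad.card ≤ 4 * B.card + 1 := by
      refine (Finset.card_insert_le _ _).trans (Nat.add_le_add_right ?_ 1)
      refine Finset.card_biUnion_le.trans ((Finset.sum_le_sum fun x _ => ?_).trans_eq (?_ : ∑ _x ∈ B, 4 = 4 * B.card))
      · exact (Multiset.toFinset_card_le _).trans ((card_roots' _).trans (hquart x).2)
      · rw [Finset.sum_const, smul_eq_mul, mul_comm]
    have h2' := two_mul_sum_pow_le hp3 k
    have h3 : p ^ k * 9 ≤ p ^ e := by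
      calc p ^ k * 9 ≤ p ^ k * p ^ 2 := Nat.mul_le_mul_left _ (by nlinarith)
        _ = p ^ (k + 2) := (pow_add p k 2).symm
        _ ≤ p ^ e := Nat.pow_le_pow_right (by omega) (by omega)
    have h4 : 0 < p ^ k := pow_pos (by omega) k
    rw [Finset.card_univ, hcard]
    omega
  obtain ⟨s, -, hs⟩ := Finset.exists_mem_notMem_of_card_lt_card hlt
  simp only [bad, Finset.mem_insert, Finset.mem_biUnion, not_or, not_exists, not_and] at hs
  obtain ⟨hs0, hs⟩ := hs
  set x : F := ((s - s⁻¹) / 2) ^ 2 with hx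
  have hx1 : x + 1 = ((s + s⁻¹) / 2) ^ 2 := by rw [hx]; field_simp; ring
  have hroot : IsRoot (quart x) s := by
    simp only [quart, IsRoot.def, eval_sub, eval_pow, eval_X, eval_one, eval_mul, eval_C, hx]
    field_simp
    ring
  have hxB : x ∉ B := fun hB => hs x hB (by rw [Multiset.mem_toFinset, mem_roots']; exact ⟨(hquart x).1, hroot⟩)
  have hk1 : 1 ≤ k := by omega
  refine ⟨x, fun h0 => hxB (hBmem 1 _ le_rfl hk1 ?_), fun h0 => hxB (hBmem 1 _ le_rfl hk1 ?_), IsSquare.sq _,
    by rw [hx1]; exact IsSquare.sq _, fun y => ?_⟩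
  · rw [h0, zero_pow (by simp only [pow_one]; omega)]
  · rw [eq_neg_of_add_eq_zero_left h0, pow_one, ((Fact.out : p.Prime).odd_of_ne_two hp).neg_one_pow]
  · set K := IntermediateField.adjoin (ZMod p) ({x} : Set F) with hK
    have hKtop : K = ⊤ := by
      by_contra hne
      haveI : Fintype K := Fintype.ofFinite K
      have hd : Module.finrank (ZMod p) K ∣ e := ⟨_, (Module.finrank_mul_finrank (ZMod p) K F).symm⟩
      obtain ⟨c, hc⟩ := hd
      have hd1 : 0 < Module.finrank (ZMod p) K := Module.finrank_pos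
      have hc1 : c ≠ 1 := fun h => hne <| IntermediateField.eq_of_le_of_finrank_le le_top <| by
        rw [IntermediateField.finrank_top', ← hedef, hc, h, mul_one]
      have hc2 : 2 ≤ c := by
        rcases Nat.eq_zero_or_pos c with rfl | hpos
        · omega
        · omega
      have hKcard : Fintype.card K = p ^ Module.finrank (ZMod p) K := by
        rw [Module.card_eq_pow_finrank (K := ZMod p) (V := K), ZMod.card]
      have hpow := FiniteField.pow_card (⟨x, IntermediateField.mem_adjoin_simple_self _ x⟩ : K)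
      rw [hKcard] at hpow
      refine hxB (hBmem _ _ hd1 ?_ (congrArg Subtype.val hpow))
      rw [hk, Nat.le_div_iff_mul_le (by norm_num), hc]
      exact Nat.mul_le_mul_left _ hc2
    have hy : y ∈ K.toSubalgebra := by rw [hKtop]; trivial
    rw [hK, IntermediateField.adjoin_simple_toSubalgebra_of_isAlgebraic (Algebra.IsAlgebraic.isAlgebraic x),
      Algebra.adjoin_singleton_eq_range_aeval] at hy
    obtain ⟨g, rfl⟩ := hy
    obtain ⟨f, rfl⟩ := Polynomial.map_surjective (Int.castRingHom (ZMod p)) ZMod.intCast_surjective g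
    exact ⟨f, (aeval_mod p x f).symm⟩

end Cfsg.Lib.SL2Pres
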