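import Cfsg.Agent.Known.SL2Pres.Words

/-!
# Groups with a root datum of rank one

A group generated by a root group, a torus element and a Weyl element satisfying the Bruhat relations
is no larger than `SL(2, q)`.
-/

set_option autoImplicit false
set_option linter.unusedSectionVars false

namespace Cfsg.Lib.SL2Pres

variable {G : Type*} [Group G] {F : Type*} [Field F] {h t : G} {φ : F → G} {ω : F}

theorem root_zero (hadd : ∀ x y, φ (x + y) = φ x * φ y) : φ 0 = 1 := by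
  have := hadd 0 0
  rw [add_zero] at this
  exact left_eq_mul.1 this

theorem root_neg (hadd : ∀ x y, φ (x + y) = φ x * φ y) (x : F) : φ (-x) = (φ x)⁻¹ := by
  rw [eq_inv_iff_mul_eq_one, ← hadd, neg_add_cancel, root_zero hadd]

theorem root_conj_zpow (hω : ω ≠ 0) (hconj : ∀ x, h * φ x * h⁻¹ = φ (ω ^ 2 * x)) (i : ℤ) :
    ∀ x, h ^ i * φ x * (h ^ i)⁻¹ = φ ((ω ^ 2) ^ i * x) := by
  induction i using Int.induction_on with
  | zero => intro x; simp
  | succ i ih =>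
    intro x
    rw [zpow_add_one₀ (pow_ne_zero 2 hω), mul_assoc ((ω ^ 2) ^ (i : ℤ)), ← ih, ← hconj, zpow_add_one]; group
  | pred i ih =>
    intro x
    have h2 := pow_ne_zero 2 hω
    have e : φ ((ω ^ 2)⁻¹ * x) = h⁻¹ * φ x * h := by
      have := hconj ((ω ^ 2)⁻¹ * x)
      rw [mul_inv_cancel_left₀ h2] at this
      rw [← this]; group
    rw [zpow_sub_one₀ h2, mul_assoc ((ω ^ 2) ^ (-(i : ℤ))), ← ih, e, zpow_sub_one]; group

theorem swap_zpow (ht : t * h * t⁻¹ = h⁻¹) (i : ℤ) : h ^ i * t = t * h ^ (-i) := by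
  have e : t * h ^ (-i) * t⁻¹ = h ^ i := by rw [conj_zpow', ht, inv_zpow, zpow_neg, inv_inv]
  rw [← e]; group

theorem sq_comm (ht : t * h * t⁻¹ = h⁻¹) : Commute (t * t) h := by
  have e : t * h⁻¹ * t⁻¹ = h := by rw [← zpow_neg_one, conj_zpow', ht]; simp
  show t * t * h = h * (t * t)
  calc t * t * h = t * (t * h * t⁻¹) * t⁻¹ * (t * t) := by group
    _ = h * (t * t) := by rw [ht, e]

/-- The Bruhat relation at `ω ^ k`. -/
def Rel (h t : G) (φ : F → G) (ω : F) (k : ℤ) : Prop :=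
  φ (ω ^ k) * t * φ (ω ^ (-k)) * t⁻¹ * φ (ω ^ k) = h ^ k * t

theorem rel_step (hω : ω ≠ 0) (hconj : ∀ x, h * φ x * h⁻¹ = φ (ω ^ 2 * x)) (ht : t * h * t⁻¹ = h⁻¹) {k : ℤ} :
    Rel h t φ ω k ↔ Rel h t φ ω (k + 2) := by
  have e1 : φ (ω ^ (k + 2)) = h * φ (ω ^ k) * h⁻¹ := by
    rw [hconj, zpow_add₀ hω, mul_comm]; norm_cast
  have e2 : φ (ω ^ (-k)) = h * φ (ω ^ (-(k + 2))) * h⁻¹ := by
    rw [hconj, show -k = 2 + -(k + 2) by ring, zpow_add₀ hω]; norm_cast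
  have s1 : h * t = t * h⁻¹ := by
    have := swap_zpow ht 1
    rwa [zpow_one, zpow_neg_one] at this
  have s2 : t⁻¹ * h⁻¹ = h * t⁻¹ := by
    rw [← mul_inv_rev, s1, mul_inv_rev, inv_inv]
  have e3 : φ (ω ^ (k + 2)) * t * φ (ω ^ (-(k + 2))) * t⁻¹ * φ (ω ^ (k + 2)) =
      h * (φ (ω ^ k) * t * φ (ω ^ (-k)) * t⁻¹ * φ (ω ^ k)) * h⁻¹ := by
    rw [e1, e2]
    calc h * φ (ω ^ k) * h⁻¹ * t * φ (ω ^ (-(k + 2))) * t⁻¹ * (h * φ (ω ^ k) * h⁻¹)
        = h * φ (ω ^ k) * (h⁻¹ * t) * φ (ω ^ (-(k + 2))) * (t⁻¹ * h) * φ (ω ^ k) * h⁻¹ := by group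
      _ = h * φ (ω ^ k) * (t * h) * φ (ω ^ (-(k + 2))) * (h⁻¹ * t⁻¹) * φ (ω ^ k) * h⁻¹ := by
        rw [show h⁻¹ * t = t * h by rw [inv_mul_eq_iff_eq_mul, ← mul_assoc, s1, inv_mul_cancel_right],
          show t⁻¹ * h = h⁻¹ * t⁻¹ by rw [eq_inv_mul_iff_mul_eq, ← mul_assoc, ← s2, mul_assoc, inv_mul_cancel, mul_one]]
      _ = _ := by group
  have e4 : h ^ (k + 2) * t = h * (h ^ k * t) * h⁻¹ := by
    calc h ^ (k + 2) * t = h * h ^ k * (h * t) := by group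
      _ = h * h ^ k * (t * h⁻¹) := by rw [s1]
      _ = _ := by group
  show _ = _ ↔ _ = _
  rw [e3, e4, mul_left_inj, mul_right_inj]

theorem rel_of_parity (hω : ω ≠ 0) (hconj : ∀ x, h * φ x * h⁻¹ = φ (ω ^ 2 * x)) (ht : t * h * t⁻¹ = h⁻¹)
    {k : ℤ} (hk : Rel h t φ ω k) : ∀ i : ℤ, Rel h t φ ω (k + 2 * i) := by
  intro i
  induction i using Int.induction_on with
  | zero => simpa using hk
  | succ i ih =>
    rw [show k + 2 * ((i : ℤ) + 1) = k + 2 * i + 2 by ring]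
    exact (rel_step hω hconj ht).1 ih
  | pred i ih =>
    refine (rel_step hω hconj ht).2 ?_
    rwa [show k + 2 * (-(i : ℤ) - 1) + 2 = k + 2 * -(i : ℤ) by ring]

theorem rel_all (hω : ω ≠ 0) (hconj : ∀ x, h * φ x * h⁻¹ = φ (ω ^ 2 * x)) (ht : t * h * t⁻¹ = h⁻¹)
    (h0 : Rel h t φ ω 0) (h1 : Rel h t φ ω 1) (k : ℤ) : Rel h t φ ω k := by
  rcases Int.even_or_odd' k with ⟨i, rfl | rfl⟩
  · simpa using rel_of_parity hω hconj ht h0 i
  · simpa [add_comm] using rel_of_parity hω hconj ht h1 i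

theorem zpow_period (hω : ω ≠ 0) {N : ℤ} (hN : ω ^ N = 1) {k : ℤ} (hk : Rel h t φ ω k)
    (hk' : Rel h t φ ω (k + N)) : h ^ N = 1 := by
  have e1 : ω ^ (k + N) = ω ^ k := by rw [zpow_add₀ hω, hN, mul_one]
  have e2 : ω ^ (-(k + N)) = ω ^ (-k) := by rw [zpow_neg, zpow_neg, e1]
  unfold Rel at hk hk'
  rw [e1, e2, hk, mul_left_inj, zpow_add] at hk'
  exact left_eq_mul.1 hk'

theorem rel_char_two (hω : ω ≠ 0) (hconj : ∀ x, h * φ x * h⁻¹ = φ (ω ^ 2 * x)) (ht : t * h * t⁻¹ = h⁻¹)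
    (h0 : Rel h t φ ω 0) {N : ℤ} (hN : ω ^ N = 1) (hodd : Odd N) (hhN : h ^ N = 1) (k : ℤ) : Rel h t φ ω k := by
  rcases Int.even_or_odd' k with ⟨i, rfl | rfl⟩
  · simpa using rel_of_parity hω hconj ht h0 i
  · obtain ⟨j, rfl⟩ := hodd
    have hk := rel_of_parity hω hconj ht h0 (i + j + 1)
    have e1 : ω ^ (0 + 2 * (i + j + 1)) = ω ^ (2 * i + 1) := by
      rw [show 0 + 2 * (i + j + 1) = 2 * i + 1 + (2 * j + 1) by ring, zpow_add₀ hω, hN, mul_one]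
    have e2 : ω ^ (-(0 + 2 * (i + j + 1))) = ω ^ (-(2 * i + 1)) := by rw [zpow_neg, zpow_neg, e1]
    unfold Rel at hk ⊢
    rwa [e1, e2, show 0 + 2 * (i + j + 1) = 2 * i + 1 + (2 * j + 1) by ring, zpow_add, hhN, mul_one] at hk

/-- The square of the Weyl element is a power of the torus element. -/
theorem half_eq (hadd : ∀ x y, φ (x + y) = φ x * φ y) {M : ℤ} (hM : ω ^ M = -1)
    (h0 : Rel h t φ ω 0) (hh : Rel h t φ ω M) : h ^ M = (t * t)⁻¹ := by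
  unfold Rel at h0 hh
  rw [neg_zero, zpow_zero, zpow_zero, one_mul] at h0
  rw [zpow_neg, hM, show (-1 : F)⁻¹ = -1 by rw [inv_neg, inv_one], root_neg hadd] at hh
  rw [eq_inv_iff_mul_eq_one]
  calc h ^ M * (t * t) = h ^ M * t * t := by group
    _ = (φ 1)⁻¹ * t * (φ 1)⁻¹ * t⁻¹ * (φ 1)⁻¹ * (φ 1 * t * φ 1 * t⁻¹ * φ 1) := by rw [hh, h0]
    _ = 1 := by group

theorem bound [Fintype F] (hω : ω ≠ 0) (hgen : ∀ x : F, x ≠ 0 → ∃ k : ℤ, ω ^ k = x)
    (hadd : ∀ x y, φ (x + y) = φ x * φ y) (hconj : ∀ x, h * φ x * h⁻¹ = φ (ω ^ 2 * x))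
    (ht : t * h * t⁻¹ = h⁻¹) (hzφ : ∀ x, Commute (t * t) (φ x)) {m : ℤ} (hm : t * t = h ^ m)
    (hK : ∀ k, Rel h t φ ω k) {n : ℕ} (hn0 : 0 < n) (hn : h ^ n = 1)
    (hcl : Subgroup.closure ({h, φ 1, t} : Set G) = ⊤) :
    Finite G ∧ Nat.card G ≤ (Fintype.card F + Fintype.card F * Fintype.card F) * n := by
  let Ψ : (F ⊕ F × F) × Fin n → G := fun p =>
    Sum.elim (fun x => φ x) (fun xy => φ xy.1 * t * φ xy.2) p.1 * h ^ (p.2 : ℕ)
  have hpow : ∀ k : ℤ, ∃ i : Fin n, h ^ k = h ^ (i : ℕ) := by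
    intro k
    have hpos : (0 : ℤ) ≤ k % n := Int.emod_nonneg _ (by omega)
    refine ⟨⟨(k % n).toNat, ?_⟩, ?_⟩
    · have := Int.emod_lt_of_pos k (show (0 : ℤ) < n by omega)
      omega
    · show h ^ k = h ^ (k % n).toNat
      rw [← zpow_natCast h (k % n).toNat, Int.toNat_of_nonneg hpos, zpow_eq_zpow_emod' k hn]
  have inl_mem : ∀ (x : F) (k : ℤ), φ x * h ^ k ∈ Set.range Ψ := fun x k => by
    obtain ⟨i, hi⟩ := hpow k
    exact ⟨(Sum.inl x, i), by rw [hi]; rfl⟩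
  have inr_mem : ∀ (x y : F) (k : ℤ), φ x * t * φ y * h ^ k ∈ Set.range Ψ := fun x y k => by
    obtain ⟨i, hi⟩ := hpow k
    exact ⟨(Sum.inr (x, y), i), by rw [hi]; rfl⟩
  have hmv : ∀ (i : ℤ) (x : F), h ^ i * φ x = φ ((ω ^ 2) ^ i * x) * h ^ i := fun i x => by
    rw [← root_conj_zpow hω hconj, inv_mul_cancel_right]
  have mul_h : ∀ (i : ℤ), ∀ s ∈ Set.range Ψ, h ^ i * s ∈ Set.range Ψ := by
    rintro i _ ⟨⟨x | ⟨x, y⟩, j⟩, rfl⟩
    · show h ^ i * (φ x * h ^ (j : ℕ)) ∈ _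
      rw [← mul_assoc, hmv, mul_assoc, ← zpow_natCast h, ← zpow_add]
      exact inl_mem _ _
    · show h ^ i * (φ x * t * φ y * h ^ (j : ℕ)) ∈ _
      have e : h ^ i * (φ x * t * φ y * h ^ (j : ℕ)) =
          φ ((ω ^ 2) ^ i * x) * t * φ ((ω ^ 2) ^ (-i) * y) * h ^ (-i + (j : ℤ)) := by
        calc h ^ i * (φ x * t * φ y * h ^ (j : ℕ)) = h ^ i * φ x * t * φ y * h ^ (j : ℕ) := by group
          _ = φ ((ω ^ 2) ^ i * x) * (h ^ i * t) * φ y * h ^ (j : ℕ) := by rw [hmv]; group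
          _ = φ ((ω ^ 2) ^ i * x) * t * (h ^ (-i) * φ y) * h ^ (j : ℕ) := by rw [swap_zpow ht]; group
          _ = _ := by rw [hmv, zpow_add, zpow_natCast]; group
      rw [e]
      exact inr_mem _ _ _
  have mul_u : ∀ (z : F), ∀ s ∈ Set.range Ψ, φ z * s ∈ Set.range Ψ := by
    rintro z _ ⟨⟨x | ⟨x, y⟩, j⟩, rfl⟩
    · show φ z * (φ x * h ^ (j : ℕ)) ∈ _
      rw [← mul_assoc, ← hadd, ← zpow_natCast h]
      exact inl_mem _ _
    · show φ z * (φ x * t * φ y * h ^ (j : ℕ)) ∈ _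
      rw [← mul_assoc, ← mul_assoc, ← mul_assoc, ← hadd, ← zpow_natCast h]
      exact inr_mem _ _ _
  have mul_t : ∀ s ∈ Set.range Ψ, t * s ∈ Set.range Ψ := by
    rintro _ ⟨⟨x | ⟨x, y⟩, j⟩, rfl⟩
    · show t * (φ x * h ^ (j : ℕ)) ∈ _
      have := inr_mem 0 x (j : ℤ)
      rwa [root_zero hadd, one_mul, zpow_natCast, mul_assoc] at this
    · show t * (φ x * t * φ y * h ^ (j : ℕ)) ∈ _
      by_cases hx : x = 0
      · have e : t * (φ x * t * φ y * h ^ (j : ℕ)) = φ y * h ^ (m + (j : ℤ)) := by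
          rw [hx, root_zero hadd, zpow_add, zpow_natCast, ← hm]
          calc t * (1 * t * φ y * h ^ (j : ℕ)) = t * t * φ y * h ^ (j : ℕ) := by group
            _ = φ y * (t * t) * h ^ (j : ℕ) := by rw [(hzφ y).eq]
            _ = _ := by group
        rw [e]
        exact inl_mem _ _
      obtain ⟨k, hk⟩ := hgen x⁻¹ (inv_ne_zero hx)
      have hK' := hK k
      unfold Rel at hK'
      rw [zpow_neg, hk, inv_inv] at hK'
      have e1 : t * φ x * t⁻¹ = φ (-x⁻¹) * (h ^ k * t) * φ (-x⁻¹) := by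
        rw [← hK', root_neg hadd]; group
      have e2 : t * (φ x * t * φ y * h ^ (j : ℕ)) =
          φ (-x⁻¹) * t * φ ((ω ^ 2) ^ (-k) * (-x⁻¹ + y)) * h ^ (-k + (m + (j : ℤ))) := by
        calc t * (φ x * t * φ y * h ^ (j : ℕ)) = t * φ x * t⁻¹ * (t * t * φ y) * h ^ (j : ℕ) := by group
          _ = φ (-x⁻¹) * (h ^ k * t) * φ (-x⁻¹) * (φ y * (t * t)) * h ^ (j : ℕ) := by rw [e1, (hzφ y).eq]
          _ = φ (-x⁻¹) * t * (h ^ (-k) * φ (-x⁻¹ + y)) * (t * t) * h ^ (j : ℕ) := by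
            rw [swap_zpow ht, hadd]; group
          _ = _ := by rw [hmv, hm, zpow_add, zpow_add, zpow_natCast]; group
      rw [e2]
      exact inr_mem _ _ _
  have hall : ∀ g : G, g ∈ Set.range Ψ := by
    intro g
    have hg : g ∈ Subgroup.closure ({h, φ 1, t} : Set G) := hcl ▸ Subgroup.mem_top g
    induction hg using Subgroup.closure_induction_left with
    | one =>
      have := inl_mem 0 0
      rwa [root_zero hadd, zpow_zero, mul_one] at this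
    | mul_left x hx y _ hy =>
      simp only [Set.mem_insert_iff, Set.mem_singleton_iff] at hx
      rcases hx with rfl | rfl | rfl
      · simpa using mul_h 1 y hy
      · exact mul_u 1 y hy
      · exact mul_t y hy
    | inv_mul_cancel x hx y _ hy =>
      simp only [Set.mem_insert_iff, Set.mem_singleton_iff] at hx
      rcases hx with rfl | rfl | rfl
      · simpa using mul_h (-1) y hy
      · rw [← root_neg hadd]; exact mul_u _ y hy
      · have e : x⁻¹ * y = x * (h ^ (-m) * y) := by rw [zpow_neg, ← hm]; group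
        rw [e]
        exact mul_t _ (mul_h _ y hy)
  have hfin : Finite G := Finite.of_surjective Ψ hall
  refine ⟨hfin, (Nat.card_le_card_of_surjective Ψ hall).trans_eq ?_⟩
  rw [Nat.card_prod, Nat.card_sum, Nat.card_prod, Nat.card_eq_fintype_card, Nat.card_fin]

end Cfsg.Lib.SL2Pres
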