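import Cfsg.Agent.Known.SL2Pres.Struct
import Cfsg.Agent.Known.SL2Pres.Field
import Cfsg.Agent.Classical.SL
import Cfsg.Agent.Classical.Misc.SmallPSL

/-!
# The matrices, and the passage from relations to a presentation
-/

set_option autoImplicit false
set_option linter.unusedSectionVars false

namespace Cfsg.Lib.SL2Pres

open Polynomial
open Matrix (SpecialLinearGroup ProjectiveSpecialLinearGroup)

variable {F : Type*} [Field F]

/-- The upper unipotent matrix. -/
def mU (x : F) : SpecialLinearGroup (Fin 2) F := ⟨!![1, x; 0, 1], by simp [Matrix.det_fin_two]⟩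

/-- The torus matrix. -/
def mH {ω : F} (hω : ω ≠ 0) : SpecialLinearGroup (Fin 2) F :=
  ⟨!![ω, 0; 0, ω⁻¹], by simp [Matrix.det_fin_two, hω]⟩

/-- The Weyl matrix. -/
def mT : SpecialLinearGroup (Fin 2) F := ⟨!![0, 1; -1, 0], by simp [Matrix.det_fin_two]⟩

theorem coe_mU (x : F) : (mU x : Matrix (Fin 2) (Fin 2) F) = !![1, x; 0, 1] := rfl

theorem coe_mH {ω : F} (hω : ω ≠ 0) : (mH hω : Matrix (Fin 2) (Fin 2) F) = !![ω, 0; 0, ω⁻¹] := rfl

theorem coe_mT : ((mT : SpecialLinearGroup (Fin 2) F) : Matrix (Fin 2) (Fin 2) F) = !![0, 1; -1, 0] := rfl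

theorem mU_add (x y : F) : mU (x + y) = mU x * mU y := by
  apply Subtype.ext; ext i j; fin_cases i <;> fin_cases j <;> simp [Matrix.SpecialLinearGroup.coe_mul, coe_mU, Matrix.mul_apply, add_comm]

theorem mH_conj {ω : F} (hω : ω ≠ 0) (x : F) : mH hω * mU x * (mH hω)⁻¹ = mU (ω ^ 2 * x) := by
  rw [mul_inv_eq_iff_eq_mul]
  apply Subtype.ext; ext i j; fin_cases i <;> fin_cases j <;>
    simp [Matrix.SpecialLinearGroup.coe_mul, coe_mU, coe_mH, Matrix.mul_apply] <;> field_simp

theorem mT_conj {ω : F} (hω : ω ≠ 0) : mT * mH hω * mT⁻¹ = (mH hω)⁻¹ := by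
  rw [mul_inv_eq_iff_eq_mul, eq_inv_mul_iff_mul_eq]
  apply Subtype.ext; ext i j; fin_cases i <;> fin_cases j <;>
    simp [Matrix.SpecialLinearGroup.coe_mul, coe_mT, coe_mH, Matrix.mul_apply, hω]

theorem mT_sq : (mT : SpecialLinearGroup (Fin 2) F) * mT = -1 := by
  apply Subtype.ext; ext i j; fin_cases i <;> fin_cases j <;> simp [Matrix.SpecialLinearGroup.coe_mul, coe_mT, Matrix.mul_apply]

theorem mT_sq_comm (g : SpecialLinearGroup (Fin 2) F) : Commute (mT * mT) g := by
  rw [mT_sq]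
  exact (Commute.one_left g).neg_left

theorem mH_zpow {ω : F} (hω : ω ≠ 0) (k : ℤ) : mH hω ^ k = mH (zpow_ne_zero k hω) := by
  have hmul : ∀ {a b : F} (ha : a ≠ 0) (hb : b ≠ 0), mH ha * mH hb = mH (mul_ne_zero ha hb) := fun ha hb => by
    apply Subtype.ext; ext i j; fin_cases i <;> fin_cases j <;> simp [Matrix.SpecialLinearGroup.coe_mul, coe_mH, Matrix.mul_apply, mul_comm]
  have hcongr : ∀ {a b : F} (e : a = b) (ha : a ≠ 0) (hb : b ≠ 0), mH ha = mH hb := fun e _ _ => by
    subst e; rfl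
  have hone : mH (one_ne_zero (α := F)) = 1 := by
    apply Subtype.ext; ext i j; fin_cases i <;> fin_cases j <;> simp [coe_mH]
  have hinv : ∀ {a : F} (ha : a ≠ 0), (mH ha)⁻¹ = mH (inv_ne_zero ha) := fun {a} ha => by
    rw [inv_eq_iff_mul_eq_one, hmul, hcongr (mul_inv_cancel₀ ha) _ one_ne_zero, hone]
  induction k using Int.induction_on with
  | zero => rw [zpow_zero, ← hone]; exact hcongr (zpow_zero ω).symm _ _
  | succ i ih => rw [zpow_add_one, ih, hmul]; exact hcongr (zpow_add_one₀ hω _).symm _ _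
  | pred i ih => rw [zpow_sub_one, ih, hinv, hmul]; exact hcongr (zpow_sub_one₀ hω _).symm _ _

theorem mRel {ω : F} (hω : ω ≠ 0) (k : ℤ) : Rel (mH hω) mT mU ω k := by
  have key : ∀ {x : F} (hx : x ≠ 0), mU x * mT * mU x⁻¹ * mT⁻¹ * mU x = mH hx * mT := fun {x} hx => by
    have e : (mT : SpecialLinearGroup (Fin 2) F)⁻¹ = -mT := by
      rw [inv_eq_iff_mul_eq_one, mul_neg, mT_sq, neg_neg]
    rw [e]
    apply Subtype.ext; ext i j; fin_cases i <;> fin_cases j <;>
      simp [Matrix.SpecialLinearGroup.coe_mul, coe_mU, coe_mH, coe_mT, Matrix.mul_apply, Fin.sum_univ_two, hx] <;> field_simp <;> ring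
  unfold Rel
  rw [zpow_neg, mH_zpow hω k]
  exact key (zpow_ne_zero k hω)

theorem wd_mat {ω : F} (hω : ω ≠ 0) (f : ℤ[X]) : wd (mH hω) (mU 1) f = mU (aeval (ω ^ 2) f) :=
  wd_root mU_add (mH_conj hω) f

theorem mat_closure [Fintype F] {ω : F} (hω : ω ≠ 0) (hgen : ∀ x : F, x ≠ 0 → ∃ k : ℕ, ω ^ k = x) :
    Subgroup.closure (Set.range ![mH hω, mU 1, mT]) = ⊤ := by
  set S := Subgroup.closure (Set.range ![mH hω, mU 1, mT])
  have hU : ∀ x, mU x ∈ S := fun x => by
    obtain ⟨f, rfl⟩ := aeval_surjective hgen x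
    rw [← wd_mat hω]
    refine list_prod_mem fun y hy => ?_
    rw [List.mem_map] at hy
    obtain ⟨i, -, rfl⟩ := hy
    have h0 : mH hω ∈ S := Subgroup.subset_closure ⟨0, rfl⟩
    have h1 : mU 1 ∈ S := Subgroup.subset_closure ⟨1, rfl⟩
    exact mul_mem (mul_mem (pow_mem h0 i) (zpow_mem h1 _)) (inv_mem (pow_mem h0 i))
  refine Cfsg.Lib.Classical.eq_top_of_transvection_mem _ fun i j hij c => ?_
  fin_cases i <;> fin_cases j
  · exact absurd rfl hij
  · convert hU c using 1
    apply Subtype.ext; ext a b; fin_cases a <;> fin_cases b <;>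
      simp [Matrix.SpecialLinearGroup.coe_mul, coe_mU, SpecialLinearGroup.transvection_coe]
  · have h2 : mT ∈ S := Subgroup.subset_closure ⟨2, rfl⟩
    convert mul_mem (mul_mem h2 (hU (-c))) (inv_mem h2) using 1
    rw [eq_mul_inv_iff_mul_eq]
    apply Subtype.ext; ext a b; fin_cases a <;> fin_cases b <;>
      simp [Matrix.SpecialLinearGroup.coe_mul, coe_mU, coe_mT, SpecialLinearGroup.transvection_coe, Matrix.mul_apply]
  · exact absurd rfl hij

/-- The generating words. -/
abbrev wH : FreeGroup (Fin 3) := FreeGroup.of 0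

/-- The generating words. -/
abbrev wU : FreeGroup (Fin 3) := FreeGroup.of 1

/-- The generating words. -/
abbrev wT : FreeGroup (Fin 3) := FreeGroup.of 2

/-- A list of relations holding in the matrices and bounding every group they hold in presents the target. -/
theorem pres_iso {T : Type*} [Group T] [Finite T] {m : ℕ} (L : List (FreeGroup (Fin 3))) (hL : L.length ≤ m)
    (f : Fin 3 → T) (hf : ∀ r ∈ L, FreeGroup.lift f r = 1) (htop : Subgroup.closure (Set.range f) = ⊤)
    (hb : ∀ (G : Type) [Group G] (g : Fin 3 → G), Subgroup.closure {g 0, g 1, g 2} = ⊤ →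
      (∀ r ∈ L, FreeGroup.lift g r = 1) → Finite G ∧ Nat.card G ≤ Nat.card T) :
    ∃ rels : Finset (FreeGroup (Fin 3)), rels.card ≤ m ∧
      Nonempty (PresentedGroup (↑rels : Set (FreeGroup (Fin 3))) ≃* T) := by
  classical
  refine ⟨L.toFinset, (List.toFinset_card_le L).trans hL, ?_⟩
  let rels : Set (FreeGroup (Fin 3)) := ↑L.toFinset
  have hmem : ∀ {r}, r ∈ rels ↔ r ∈ L := by simp [rels]
  have hmk : PresentedGroup.mk rels = FreeGroup.lift (fun i => PresentedGroup.of (rels := rels) i) :=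
    FreeGroup.ext_hom _ _ fun i => by rw [FreeGroup.lift_apply_of]; rfl
  have htopG : Subgroup.closure ({PresentedGroup.of (rels := rels) 0, PresentedGroup.of 1, PresentedGroup.of 2} :
      Set (PresentedGroup rels)) = ⊤ := by
    rw [eq_top_iff, ← PresentedGroup.closure_range_of rels]
    refine Subgroup.closure_mono ?_
    rintro _ ⟨i, rfl⟩
    fin_cases i <;> simp
  obtain ⟨hfin, hcard⟩ := hb _ (fun i => PresentedGroup.of (rels := rels) i) htopG fun r hr => by
    rw [← hmk]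
    exact PresentedGroup.one_of_mem (hmem.2 hr)
  let π : PresentedGroup rels →* T := PresentedGroup.toGroup (fun r hr => hf r (hmem.1 hr))
  have hsurj : Function.Surjective π := by
    rw [← MonoidHom.range_eq_top, eq_top_iff, ← htop, Subgroup.closure_le]
    rintro _ ⟨i, rfl⟩
    exact ⟨PresentedGroup.of i, PresentedGroup.toGroup.of _⟩
  exact ⟨MulEquiv.ofBijective π ((Nat.bijective_iff_surjective_and_card π).2
    ⟨hsurj, le_antisymm hcard (Nat.card_le_card_of_surjective π hsurj)⟩)⟩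

/-- The image in the projective group. -/
abbrev toPSL : SpecialLinearGroup (Fin 2) F →* ProjectiveSpecialLinearGroup (Fin 2) F := QuotientGroup.mk' _

theorem psl_closure [Fintype F] {ω : F} (hω : ω ≠ 0) (hgen : ∀ x : F, x ≠ 0 → ∃ k : ℕ, ω ^ k = x) :
    Subgroup.closure (Set.range (⇑toPSL ∘ ![mH hω, mU 1, mT])) = ⊤ := by
  rw [Set.range_comp, ← MonoidHom.map_closure, mat_closure hω hgen]
  exact Subgroup.map_top_of_surjective _ (QuotientGroup.mk'_surjective _)

theorem lift_psl {ω : F} (hω : ω ≠ 0) (r : FreeGroup (Fin 3))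
    (hr : FreeGroup.lift ![mH hω, mU 1, mT] r = 1) :
    FreeGroup.lift (⇑toPSL ∘ ![mH hω, mU 1, mT]) r = 1 := by
  have e : (toPSL (F := F)).comp (FreeGroup.lift ![mH hω, mU 1, mT]) =
      FreeGroup.lift (⇑toPSL ∘ ![mH hω, mU 1, mT]) :=
    FreeGroup.ext_hom _ _ fun i => by simp
  rw [← e, MonoidHom.comp_apply, hr, map_one]

theorem toPSL_mT_sq : toPSL (mT * mT : SpecialLinearGroup (Fin 2) F) = 1 :=
  (QuotientGroup.eq_one_iff _).2 (Subgroup.mem_center_iff.2 fun g => (mT_sq_comm g).eq.symm)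

end Cfsg.Lib.SL2Pres
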