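import Mathlib

/-!
# Abelian normal closures under one element, and the module structure

Relations saying that the conjugates of `u` by powers of `h` generate a module over a finite field.
-/

set_option autoImplicit false
set_option linter.unusedSectionVars false

namespace Cfsg.Lib.SL2Pres

open Polynomial

variable {G : Type*} [Group G]

/-- The conjugate of `u` by `h ^ k`. -/
def cj (h u : G) (k : ℤ) : G := h ^ k * u * (h ^ k)⁻¹

theorem cj_zero (h u : G) : cj h u 0 = u := by simp [cj]

theorem cj_one (h u : G) : cj h u 1 = h * u * h⁻¹ := by simp [cj]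

theorem cj_add (h u : G) (k l : ℤ) : cj h u (k + l) = h ^ k * cj h u l * (h ^ k)⁻¹ := by
  simp only [cj, zpow_add, mul_inv_rev]; group

theorem cj_natCast (h u : G) (i : ℕ) : cj h u i = h ^ i * u * (h ^ i)⁻¹ := by simp [cj]

theorem commute_conj {g a b : G} (hab : Commute a b) : Commute (g * a * g⁻¹) (g * b * g⁻¹) :=
  hab.map (MulAut.conj g)

theorem commute_cj_shift {h u : G} {i j : ℤ} (hc : Commute (cj h u i) (cj h u j)) (k : ℤ) :
    Commute (cj h u (k + i)) (cj h u (k + j)) := by
  rw [cj_add, cj_add]; exact commute_conj hc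

/-- The step: `u ^ y = u · u ^ x` spreads commuting along the powers of `x`. -/
theorem commute_steps {h u : G} {a b : ℤ} (h1 : Commute u (cj h u a)) (h2 : cj h u b = u * cj h u a) :
    ∀ i : ℕ, Commute u (cj h u (a * i)) := by
  have key : ∀ n : ℕ, ∀ i ≤ n, Commute u (cj h u (a * i)) := by
    intro n
    induction n with
    | zero => intro i hi; obtain rfl : i = 0 := by omega
              simp [cj_zero]
    | succ n ih =>
      intro i hi
      rcases Nat.lt_or_ge i (n + 1) with hlt | hge
      · exact ih i (by omega)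
      obtain rfl : i = n + 1 := by omega
      rcases Nat.eq_zero_or_pos n with rfl | hn
      · simpa using h1
      have e0 := ih n le_rfl
      have e1 : Commute (cj h u b) (cj h u (b + a * n)) := by
        simpa using commute_cj_shift (show Commute (cj h u 0) (cj h u (a * n)) by rwa [cj_zero]) b
      have ey : cj h u (b + a * n) = cj h u (a * n) * cj h u (a * (n + 1 : ℕ)) := by
        rw [add_comm, cj_add, h2, show a * ((n + 1 : ℕ) : ℤ) = a * n + a by push_cast; ring, cj_add h u (a * n) a,
          cj, cj]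
        group
      rw [h2, ey] at e1
      have a1 : Commute (cj h u a) (cj h u (a * n)) := by
        have hprev : Commute (cj h u 0) (cj h u (a * (n - 1 : ℕ))) := by rw [cj_zero]; exact ih (n - 1) (by omega)
        have := commute_cj_shift hprev a
        rwa [add_zero, show a + a * ((n - 1 : ℕ) : ℤ) = a * n by push_cast [Nat.cast_sub hn]; ring] at this
      have a2 : Commute (cj h u a) (cj h u (a * (n + 1 : ℕ))) := by
        have := commute_cj_shift (show Commute (cj h u 0) (cj h u (a * n)) by rwa [cj_zero]) a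
        rwa [add_zero, show a + a * (n : ℤ) = a * ((n + 1 : ℕ) : ℤ) by push_cast; ring] at this
      have b1 : Commute (u * cj h u a) (cj h u (a * n)) := e0.mul_left a1
      have b2 : Commute (u * cj h u a) (cj h u (a * (n + 1 : ℕ))) := by
        have := (b1.inv_right).mul_right e1
        rwa [inv_mul_cancel_left] at this
      have := b2.mul_left a2.inv_left
      rwa [mul_inv_cancel_right] at this
  exact fun i => key i i le_rfl

/-- The subgroup of the conjugates by non-negative multiples of `a`. -/
def multClosure (h u : G) (a : ℤ) : Subgroup G := Subgroup.closure (Set.range fun i : ℕ => cj h u (a * i))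

theorem all_commute_of_mult {h u : G} {a : ℤ} (hs : ∀ i : ℕ, Commute u (cj h u (a * i)))
    (hh : cj h u 1 ∈ multClosure h u a) : ∀ i j : ℤ, Commute (cj h u i) (cj h u j) := by
  have hpair : ∀ i j : ℕ, Commute (cj h u (a * i)) (cj h u (a * j)) := by
    intro i j
    rcases le_total i j with hij | hij
    · obtain ⟨k, rfl⟩ := Nat.exists_eq_add_of_le hij
      have := commute_cj_shift (show Commute (cj h u 0) (cj h u (a * k)) by rw [cj_zero]; exact hs k) (a * i)
      rwa [add_zero, ← mul_add, ← Nat.cast_add] at this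
    · obtain ⟨k, rfl⟩ := Nat.exists_eq_add_of_le hij
      have := commute_cj_shift (show Commute (cj h u 0) (cj h u (a * k)) by rw [cj_zero]; exact hs k) (a * j)
      rw [add_zero, ← mul_add, ← Nat.cast_add] at this
      exact this.symm
  have hA : IsMulCommutative (multClosure h u a) :=
    Subgroup.isMulCommutative_closure fun x hx y hy => by
      obtain ⟨i, rfl⟩ := hx; obtain ⟨j, rfl⟩ := hy; exact (hpair i j).eq
  have hshiftA : ∀ (i : ℕ), ∀ y ∈ multClosure h u a, h ^ (a * i) * y * (h ^ (a * i))⁻¹ ∈ multClosure h u a := by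
    intro i y hy
    induction hy using Subgroup.closure_induction with
    | mem y hy =>
      obtain ⟨j, rfl⟩ := hy
      refine Subgroup.subset_closure ⟨i + j, ?_⟩
      show cj h u (a * ((i + j : ℕ) : ℤ)) = _
      rw [Nat.cast_add, mul_add, cj_add]
    | one => simpa using one_mem (multClosure h u a)
    | mul y z _ _ hy hz => simpa using mul_mem hy hz
    | inv y _ hy => simpa [mul_assoc] using inv_mem hy
  have hh' : ∀ y ∈ multClosure h u a, h * y * h⁻¹ ∈ multClosure h u a := by
    intro y hy
    induction hy using Subgroup.closure_induction with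
    | mem y hy =>
      obtain ⟨j, rfl⟩ := hy
      have := hshiftA j _ hh
      rwa [← cj_add, add_comm, cj_add h u 1, zpow_one] at this
    | one => simpa using one_mem (multClosure h u a)
    | mul y z _ _ hy hz => simpa using mul_mem hy hz
    | inv y _ hy => simpa [mul_assoc] using inv_mem hy
  have hnat : ∀ k : ℕ, cj h u k ∈ multClosure h u a := by
    intro k
    induction k with
    | zero => exact Subgroup.subset_closure ⟨0, by simp⟩
    | succ k ih =>
      have := hh' _ ih
      rwa [show ((k + 1 : ℕ) : ℤ) = 1 + k by push_cast; ring, cj_add, zpow_one]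
  intro i j
  have hc : Commute (cj h u ((i.natAbs + j.natAbs : ℕ) + i)) (cj h u ((i.natAbs + j.natAbs : ℕ) + j)) := by
    obtain ⟨i', hi'⟩ := Int.eq_ofNat_of_zero_le (show (0 : ℤ) ≤ (i.natAbs + j.natAbs : ℕ) + i by omega)
    obtain ⟨j', hj'⟩ := Int.eq_ofNat_of_zero_le (show (0 : ℤ) ≤ (i.natAbs + j.natAbs : ℕ) + j by omega)
    rw [hi', hj']
    exact congrArg Subtype.val (hA.is_comm.comm ⟨_, hnat i'⟩ ⟨_, hnat j'⟩)
  have := commute_cj_shift hc (-((i.natAbs + j.natAbs : ℕ) : ℤ))
  rwa [neg_add_cancel_left, neg_add_cancel_left] at this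

theorem all_commute_of_two {h u : G} (h1 : Commute u (cj h u 1))
    (h2 : cj h u 2 ∈ Subgroup.closure ({u, cj h u 1} : Set G)) : ∀ i j : ℤ, Commute (cj h u i) (cj h u j) := by
  refine all_commute_of_mult (a := 1) ?_ (Subgroup.subset_closure ⟨1, by simp⟩)
  set A := Subgroup.closure ({u, cj h u 1} : Set G) with hA
  have hAc : IsMulCommutative A := Subgroup.isMulCommutative_closure fun x hx y hy => by
    simp only [Set.mem_insert_iff, Set.mem_singleton_iff] at hx hy
    rcases hx with rfl | rfl <;> rcases hy with rfl | rfl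
    exacts [rfl, h1.eq, h1.symm.eq, rfl]
  have hh : ∀ y ∈ A, h * y * h⁻¹ ∈ A := by
    intro y hy
    induction hy using Subgroup.closure_induction with
    | mem y hy =>
      rcases hy with rfl | rfl
      · rw [← cj_one]; exact Subgroup.subset_closure (Or.inr rfl)
      · rw [show h * cj h u 1 * h⁻¹ = cj h u 2 by rw [show (2 : ℤ) = 1 + 1 by norm_num, cj_add h u 1 1, zpow_one]]
        exact h2
    | one => simpa using one_mem A
    | mul y z _ _ hy hz => simpa using mul_mem hy hz
    | inv y _ hy => simpa [mul_assoc] using inv_mem hy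
  have hnat : ∀ k : ℕ, cj h u k ∈ A := by
    intro k
    induction k with
    | zero => exact Subgroup.subset_closure (Or.inl (by simp [cj_zero]))
    | succ k ih =>
      have := hh _ ih
      rwa [show ((k + 1 : ℕ) : ℤ) = 1 + k by push_cast; ring, cj_add, zpow_one]
  intro i
  rw [one_mul]
  exact congrArg Subtype.val (hAc.is_comm.comm ⟨u, Subgroup.subset_closure (Or.inl rfl)⟩ ⟨_, hnat i⟩)

/-- The word of a polynomial. -/
def wd (h u : G) (f : ℤ[X]) : G :=
  ((List.range (f.natDegree + 1)).map fun i => h ^ i * u ^ f.coeff i * (h ^ i)⁻¹).prod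

theorem wd_map {H : Type*} [Group H] (φ : G →* H) (h u : G) (f : ℤ[X]) : φ (wd h u f) = wd (φ h) (φ u) f := by
  rw [wd, wd, map_list_prod, List.map_map]
  congr 1
  refine List.map_congr_left fun i _ => ?_
  simp

theorem conj_zpow' (g y : G) (n : ℤ) : g * y ^ n * g⁻¹ = (g * y * g⁻¹) ^ n := by simp

theorem wd_mem {h u : G} {a : ℤ} (f : ℤ[X]) (hf : ∀ i : ℕ, f.coeff i ≠ 0 → ∃ j : ℕ, (i : ℤ) = a * j) :
    wd h u f ∈ multClosure h u a := by
  refine list_prod_mem fun x hx => ?_
  rw [List.mem_map] at hx
  obtain ⟨i, -, rfl⟩ := hx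
  by_cases hc : f.coeff i = 0
  · rw [hc]; simp
  obtain ⟨j, hj⟩ := hf i hc
  rw [conj_zpow', ← cj_natCast, hj]
  exact Subgroup.zpow_mem _ (Subgroup.subset_closure (Set.mem_range_self (f := fun i : ℕ => cj h u (a * i)) j)) _

section Module

variable {h u : G}

/-- The group of all conjugates. -/
def allClosure (h u : G) : Subgroup G := Subgroup.closure (Set.range (cj h u))

theorem allClosure_conj {y : G} (hy : y ∈ allClosure h u) : h * y * h⁻¹ ∈ allClosure h u := by
  induction hy using Subgroup.closure_induction with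
  | mem y hy =>
    obtain ⟨k, rfl⟩ := hy
    exact Subgroup.subset_closure ⟨1 + k, by rw [cj_add, zpow_one]⟩
  | one => simpa using one_mem (allClosure h u)
  | mul y z _ _ hy hz => simpa using mul_mem hy hz
  | inv y _ hy => simpa [mul_assoc] using inv_mem hy

theorem allClosure_commute (hc : ∀ i j : ℤ, Commute (cj h u i) (cj h u j)) {x y : G} (hx : x ∈ allClosure h u)
    (hy : y ∈ allClosure h u) : Commute x y := by
  haveI : IsMulCommutative (allClosure h u) :=
    Subgroup.isMulCommutative_closure fun x hx y hy => by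
      obtain ⟨i, rfl⟩ := hx; obtain ⟨j, rfl⟩ := hy; exact (hc i j).eq
  exact congrArg Subtype.val ((inferInstance : IsMulCommutative (allClosure h u)).is_comm.comm ⟨x, hx⟩ ⟨y, hy⟩)

/-- All conjugates commute: the map from polynomials. -/
theorem exists_theta (hc : ∀ i j : ℤ, Commute (cj h u i) (cj h u j)) :
    ∃ θ : ℤ[X] → G, (∀ f, θ f = wd h u f) ∧ (∀ f g, θ (f + g) = θ f * θ g) ∧ θ 1 = u ∧
      (∀ f, h * θ f * h⁻¹ = θ (X * f)) ∧ (∀ f g, θ f = 1 → θ (g * f) = 1) ∧
      (∀ (f : ℤ[X]) (c : ℤ), θ (C c * f) = θ f ^ c) ∧ ∀ f, θ f ∈ allClosure h u := by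
  letI : CommGroup (allClosure h u) :=
    { (inferInstance : Group (allClosure h u)) with
      mul_comm := fun a b => Subtype.ext (allClosure_commute hc a.2 b.2).eq }
  let cM : allClosure h u →* allClosure h u :=
    { toFun := fun y => ⟨h * y.1 * h⁻¹, allClosure_conj y.2⟩
      map_one' := Subtype.ext (by simp)
      map_mul' := fun a b => Subtype.ext (by simp) }
  let T : Module.End ℤ (Additive (allClosure h u)) := (MonoidHom.toAdditive cM).toIntLinearMap
  let u0 : Additive (allClosure h u) := Additive.ofMul ⟨u, Subgroup.subset_closure ⟨0, cj_zero h u⟩⟩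
  let val : Additive (allClosure h u) → G := fun x => ((Additive.toMul x : allClosure h u) : G)
  have hTi : ∀ i : ℕ, val ((T ^ i) u0) = h ^ i * u * (h ^ i)⁻¹ := by
    intro i
    induction i with
    | zero => simp [val, u0]
    | succ i ih =>
      rw [pow_succ', Module.End.mul_apply]
      show h * val ((T ^ i) u0) * h⁻¹ = _
      rw [ih, pow_succ']; group
  have hsum : ∀ (f : ℤ[X]) (n : ℕ), val (∑ i ∈ Finset.range n, f.coeff i • (T ^ i) u0) =
      ((List.range n).map fun i => h ^ i * u ^ f.coeff i * (h ^ i)⁻¹).prod := by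
    intro f n
    induction n with
    | zero => rfl
    | succ n ih =>
      rw [Finset.sum_range_succ, List.range_succ, List.map_append, List.prod_append, ← ih, List.map_singleton,
        List.prod_singleton, conj_zpow', ← hTi n]
      rfl
  refine ⟨fun f => val (aeval T f u0), fun f => ?_, fun f g => ?_, ?_, fun f => ?_, fun f g hf => ?_,
    fun f c => ?_, fun f => (Additive.toMul (aeval T f u0)).2⟩
  · show val (aeval T f u0) = wd h u f
    rw [aeval_eq_sum_range, LinearMap.sum_apply]
    simp only [LinearMap.smul_apply]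
    exact hsum f _
  · show val (aeval T (f + g) u0) = _
    rw [map_add, LinearMap.add_apply]; rfl
  · show val (aeval T (1 : ℤ[X]) u0) = u
    rw [map_one]; rfl
  · show h * val (aeval T f u0) * h⁻¹ = val (aeval T (X * f) u0)
    rw [map_mul, aeval_X, Module.End.mul_apply]; rfl
  · show val (aeval T (g * f) u0) = 1
    have hf' : aeval T f u0 = 0 := by
      have : Additive.toMul (aeval T f u0) = (1 : allClosure h u) := Subtype.ext hf
      exact this
    rw [map_mul, Module.End.mul_apply, hf', map_zero]; rfl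
  · show val (aeval T (C c * f) u0) = val (aeval T f u0) ^ c
    rw [map_mul, aeval_C, Module.End.mul_apply, Module.algebraMap_end_apply]
    rfl

/-- The root map: the module is a quotient of the field. -/
theorem exists_root_hom {F : Type*} [Field F] (p : ℕ) [Fact p.Prime] [CharP F p] (ρ : F)
    (hgen : ∀ x : F, ∃ f : ℤ[X], aeval ρ f = x) (P : ℤ[X])
    (hP : ∀ f : ℤ[X], aeval ρ f = 0 → ∃ g r : ℤ[X], f = g * P + C (p : ℤ) * r)
    (hc : ∀ i j : ℤ, Commute (cj h u i) (cj h u j)) (hup : u ^ p = 1) (hPu : wd h u P = 1) :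
    ∃ φ : F → G, (∀ x y, φ (x + y) = φ x * φ y) ∧ φ 1 = u ∧ (∀ x, h * φ x * h⁻¹ = φ (ρ * x)) ∧
      ∀ f : ℤ[X], φ (aeval ρ f) = wd h u f := by
  obtain ⟨θ, hθ, hadd, hone, hX, hmul, hC, -⟩ := exists_theta hc
  have hker : ∀ f, aeval ρ f = 0 → θ f = 1 := by
    intro f hf
    obtain ⟨g, r, rfl⟩ := hP f hf
    rw [hadd, hmul P g (by rw [hθ, hPu]), one_mul, mul_comm]
    refine hmul _ r ?_
    rw [← mul_one (C (p : ℤ)), hC, hone, zpow_natCast, hup]
  have heq : ∀ f g, aeval ρ f = aeval ρ g → θ f = θ g := by
    intro f g hfg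
    have := hker (f - g) (by rw [map_sub, hfg, sub_self])
    calc θ f = θ ((f - g) + g) := by rw [sub_add_cancel]
      _ = θ g := by rw [hadd, this, one_mul]
  choose pre hpre using hgen
  refine ⟨fun x => θ (pre x), fun x y => ?_, ?_, fun x => ?_, fun f => ?_⟩
  · show θ (pre (x + y)) = _
    rw [← hadd]
    exact heq _ _ (by rw [map_add, hpre, hpre, hpre])
  · show θ (pre 1) = u
    rw [← hone]
    exact heq _ _ (by rw [hpre, map_one])
  · show h * θ (pre x) * h⁻¹ = θ (pre (ρ * x))
    rw [hX]
    exact heq _ _ (by rw [map_mul, aeval_X, hpre, hpre])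
  · show θ (pre (aeval ρ f)) = wd h u f
    rw [← hθ]
    exact heq _ _ (hpre _)

/-- Killing a fixed value of a polynomial. -/
theorem wd_eq_one_of_fixed (hc : ∀ i j : ℤ, Commute (cj h u i) (cj h u j)) {P : ℤ[X]} {b : ℕ}
    (hfix : h * wd h u P * h⁻¹ = wd h u P) (hR : wd h u (X ^ b - X - 1) = 1) : wd h u P = 1 := by
  obtain ⟨θ, hθ, hadd, hone, hX, hmul, hC, -⟩ := exists_theta hc
  simp only [← hθ] at hfix hR ⊢
  have hpow : ∀ k : ℕ, θ (X ^ k * P) = θ P := by
    intro k
    induction k with
    | zero => rw [pow_zero, one_mul]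
    | succ k ih =>
      rw [pow_succ', mul_assoc, ← hX, ih, hfix]
  have h0 : θ (P * (X ^ b - X - 1)) = 1 := hmul _ P hR
  have e : X ^ b * P = P * (X ^ b - X - 1) + (X ^ 1 * P + P) := by ring
  have h1 := congrArg θ e
  rw [hadd, hadd, h0, hpow, hpow, one_mul] at h1
  exact (left_eq_mul).1 h1

end Module

end Cfsg.Lib.SL2Pres
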